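import Cfsg.Agent.Lib.Small.ShapeThree.Complement

/-!
Recognition of `3^{1+2}_+ : SL₂(3)`.
-/

set_option autoImplicit false
set_option linter.style.haveILetI false

open scoped commutatorElement

namespace Cfsg.Agent.Small.ShapeThree

open Matrix

variable {X : Type*} [Group X] [Finite X]

theorem vec_eq (v : V) : v = v 0 • (Pi.single 0 1 : V) + v 1 • (Pi.single 1 1 : V) := by
  ext i; fin_cases i <;> simp

theorem Setup.nonempty_equiv (U : Setup X)
    (hE : ∃ E : Subgroup X, IsMulCommutative E ∧ (∀ a ∈ E, a ^ 3 = 1) ∧ Nat.card E = 27) :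
    Nonempty (M ≃* X) := by
  obtain ⟨t, ht, htπ⟩ := U.exists_involution
  have hti : t⁻¹ = t := inv_eq_of_mul_eq_one_right ht
  obtain ⟨x, hx, hxt, hxπ⟩ := U.exists_order_three ht htπ hE
  obtain ⟨σ, hσ⟩ := U.exists_section ht htπ hx hxt hxπ
  -- inverted generators
  obtain ⟨a0, ha0, hna0⟩ : ∃ r ∈ U.R, ∃ s ∈ U.R, ¬ Commute r s := by
    by_contra h
    push Not at h
    obtain ⟨r, hr, hne⟩ := U.t_moves ht htπ
    obtain ⟨k, rfl⟩ := U.cen r hr (h r hr)
    exact hne ((U.z_central t).zpow_left k).symm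
  obtain ⟨b0, hb0, hab0⟩ := hna0
  obtain ⟨w, hw, hwa⟩ := U.exists_inverted ht htπ ha0
  obtain ⟨w', hw', hwb⟩ := U.exists_inverted ht htπ hb0
  have hwc : ∀ w ∈ Subgroup.zpowers U.z, ∀ g, Commute w g := by
    rintro _ ⟨k, rfl⟩ g
    exact (U.z_central g).zpow_left k
  obtain ⟨a, ha⟩ : ∃ a, a = a0 * w := ⟨_, rfl⟩
  obtain ⟨b, hb⟩ : ∃ b, b = b0 * w' := ⟨_, rfl⟩
  have haR : a ∈ U.R := ha ▸ mul_mem ha0 (U.zpowers_le hw)
  have hbR : b ∈ U.R := hb ▸ mul_mem hb0 (U.zpowers_le hw')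
  rw [← ha] at hwa
  rw [← hb] at hwb
  have hnc : ¬ Commute a b := by
    intro h
    refine hab0 ?_
    have e1 : a0 = a * w⁻¹ := by rw [ha, mul_inv_cancel_right]
    have e2 : b0 = b * w'⁻¹ := by rw [hb, mul_inv_cancel_right]
    rw [e1, e2]
    exact ((h.mul_right (hwc _ (inv_mem hw') a).symm).mul_left (hwc _ (inv_mem hw) _))
  obtain ⟨z, hz⟩ : ∃ z, z = ⁅a, b⁆ := ⟨_, rfl⟩
  have hzZ : z ∈ Subgroup.zpowers U.z := hz ▸ U.comm a haR b hbR
  have hz1 : z ≠ 1 := fun h => hnc (commutatorElement_eq_one_iff_commute.1 (hz ▸ h))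
  let D : Pair X :=
    { a := a, b := b, z := z, ha := U.exp _ haR, hb := U.exp _ hbR, hz := U.exp _ (U.zpowers_le hzZ)
      hza := hwc z hzZ a, hzb := hwc z hzZ b
      hab := by rw [hz, commutatorElement_def]; group }
  -- the coordinates fill `R`
  have hmem : ∀ k v, D.h k v ∈ U.R := fun k v =>
    mul_mem (mul_mem (pow_mem (U.zpowers_le hzZ) _) (pow_mem haR _)) (pow_mem hbR _)
  have hsurj : ∀ r ∈ U.R, ∃ k v, D.h k v = r := by
    let f : ZMod 3 × V → U.R := fun p => ⟨D.h p.1 p.2, hmem _ _⟩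
    have hf : Function.Injective f := fun p q e =>
      Prod.ext_iff.2 (D.h_inj hz1 (congrArg Subtype.val e))
    have hcard : Nat.card (ZMod 3 × V) = Nat.card U.R := by
      rw [U.card, Nat.card_eq_fintype_card]; rfl
    intro r hr
    obtain ⟨p, hp⟩ := ((Nat.bijective_iff_injective_and_card f).2 ⟨hf, hcard⟩).2 ⟨r, hr⟩
    exact ⟨p.1, p.2, congrArg Subtype.val hp⟩
  have hth : ∀ k v, t * D.h k v * t = D.h k (-v) := by
    intro k v
    have hp : ∀ g : X, g ^ 3 = 1 → t * g * t = g⁻¹ → ∀ i : ZMod 3, t * pw g i * t = pw g (-i) := by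
      intro g hg3 hg i
      have e : t * g ^ i.val * t = (t * g * t) ^ i.val := by
        nth_rw 2 [← hti]
        rw [← conj_pow, hti]
      rw [pw, e, hg, inv_pow]
      refine inv_eq_of_mul_eq_one_right ?_
      rw [← pw, ← pw_add hg3, add_neg_cancel, pw_zero]
    have hzt : t * pw z (2 * k + v 0 * v 1) * t = pw z (2 * k + v 0 * v 1) := by
      have e := ((hwc z hzZ t).pow_left (2 * k + v 0 * v 1).val).eq
      rw [pw, mul_assoc, e, ← mul_assoc, ht, one_mul]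
    calc t * D.h k v * t = (t * pw z (2 * k + v 0 * v 1) * t) * (t * pw a (v 0) * t) *
          (t * pw b (v 1) * t) := by
          show t * (pw z _ * pw a _ * pw b _) * t = _
          rw [show ∀ p q r : X, (t * p * t) * (t * q * t) * (t * r * t) = t * p * (t * t) * q * (t * t) * r * t
            from fun p q r => by group, ht]
          group
      _ = D.h k (-v) := by
          rw [hzt, hp a D.ha hwa, hp b D.hb hwb]
          simp only [Pair.h, Pi.neg_apply, neg_mul_neg]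
          rfl
  have hhinv : ∀ k v, (D.h k v)⁻¹ = D.h (-k) (-v) := fun k v => by
    refine inv_eq_of_mul_eq_one_right ?_
    rw [D.h_mul, add_neg_cancel, add_neg_cancel, zero_add,
      show omega v (-v) = 0 by simp [omega]; ring, D.h_zero]
  -- the action
  have hact : ∀ (s : S) (v : V), ∃ w, σ s * D.h 0 v * (σ s)⁻¹ = D.h 0 w := by
    intro s v
    obtain ⟨k, w, e⟩ := hsurj _ (U.conj_mem (hmem 0 v) (σ s))
    refine ⟨w, ?_⟩
    have hinv : t * D.h k w * t = (D.h k w)⁻¹ := by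
      rw [e]
      have hc := (hσ s).2
      calc t * (σ s * D.h 0 v * (σ s)⁻¹) * t = (t * σ s) * D.h 0 v * ((σ s)⁻¹ * t) := by group
        _ = σ s * (t * D.h 0 v * t) * (σ s)⁻¹ := by rw [← hc.eq, hc.inv_left.eq]; group
        _ = (σ s * D.h 0 v * (σ s)⁻¹)⁻¹ := by
          rw [hth, show D.h 0 (-v) = (D.h 0 v)⁻¹ by rw [hhinv, neg_zero]]; group
    rw [hth, hhinv] at hinv
    obtain ⟨hk, -⟩ := D.h_inj hz1 hinv
    have : k = 0 := (show ∀ i : ZMod 3, i = -i → i = 0 by decide) k hk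
    rw [← e, this]
  choose ψ hψ using hact
  have hadd : ∀ s v w, ψ s (v + w) = ψ s v + ψ s w ∧ omega (ψ s v) (ψ s w) = omega v w := by
    intro s v w
    have hc : ∀ k, σ s * D.h k 0 * (σ s)⁻¹ = D.h k 0 := fun k => by
      rw [D.h_z, mul_inv_eq_iff_eq_mul]
      exact ((hwc z hzZ (σ s)).pow_left _).eq.symm
    have e1 : σ s * D.h (omega v w) (v + w) * (σ s)⁻¹ = D.h (omega v w) (ψ s (v + w)) := by
      rw [show D.h (omega v w) (v + w) = D.h (omega v w) 0 * D.h 0 (v + w) by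
        rw [D.h_mul]; simp [omega]]
      rw [show σ s * (D.h (omega v w) 0 * D.h 0 (v + w)) * (σ s)⁻¹ =
        (σ s * D.h (omega v w) 0 * (σ s)⁻¹) * (σ s * D.h 0 (v + w) * (σ s)⁻¹) by group, hc, hψ, D.h_mul]
      simp [omega]
    have e2 : σ s * D.h (omega v w) (v + w) * (σ s)⁻¹ =
        D.h (omega (ψ s v) (ψ s w)) (ψ s v + ψ s w) := by
      rw [show D.h (omega v w) (v + w) = D.h 0 v * D.h 0 w by rw [D.h_mul]; simp]
      rw [show σ s * (D.h 0 v * D.h 0 w) * (σ s)⁻¹ =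
        (σ s * D.h 0 v * (σ s)⁻¹) * (σ s * D.h 0 w * (σ s)⁻¹) by group, hψ, hψ, D.h_mul]
      simp
    obtain ⟨h1, h2⟩ := D.h_inj hz1 (e1.symm.trans e2)
    exact ⟨h2, h1.symm⟩
  obtain ⟨A, hA⟩ : ∃ A : S → S, ∀ s v, (A s).1 *ᵥ v = ψ s v := by
    refine ⟨fun s => ⟨!![ψ s (Pi.single 0 1) 0, ψ s (Pi.single 1 1) 0;
      ψ s (Pi.single 0 1) 1, ψ s (Pi.single 1 1) 1], ?_⟩, fun s v => ?_⟩
    · have h := (hadd s (Pi.single 0 1) (Pi.single 1 1)).2
      rw [det_fin_two_of]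
      simp only [omega] at h
      simp at h
      linear_combination h
    · let φ : V →+ V := AddMonoidHom.mk' (ψ s) fun v w => (hadd s v w).1
      have hsm : ∀ (c : ZMod 3) (u : V), ψ s (c • u) = c • ψ s u := fun c u =>
        (φ.toZModLinearMap 3).map_smul c u
      conv_rhs => rw [vec_eq v, (hadd s _ _).1, hsm, hsm]
      ext i
      fin_cases i <;> simp [mulVec, dotProduct, Fin.sum_univ_two] <;> ring
  have hAψ : ∀ s v, σ s * D.h 0 v * (σ s)⁻¹ = D.h 0 ((A s).1 *ᵥ v) := fun s v => by rw [hA, hψ]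
  have hAmul : ∀ s s', A (s * s') = A s * A s' := by
    intro s s'
    have : ∀ v, (A (s * s')).1 *ᵥ v = (A s * A s').1 *ᵥ v := by
      intro v
      have e : D.h 0 ((A (s * s')).1 *ᵥ v) = D.h 0 ((A s).1 *ᵥ ((A s').1 *ᵥ v)) := by
        rw [← hAψ, ← hAψ, ← hAψ, map_mul]; group
      rw [(D.h_inj hz1 e).2, coe_mul, mulVec_mulVec]
    exact Subtype.ext (ext_of_mulVec_single fun i => this _)
  let P : S →* S := MonoidHom.mk' A hAmul
  have hσt : σ (-1) = t := by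
    have hm : σ (-1) * t ∈ U.R := by rw [U.mem_R, map_mul, (hσ _).1, htπ]; decide
    obtain ⟨k, hk⟩ := U.mem_Z_of_commute ht htπ hm ((hσ _).2.mul_left (Commute.refl t))
    simp only at hk
    have h2 : (σ (-1) * t) ^ 2 = 1 := by
      rw [(hσ _).2.mul_pow, pow_two t, ht, mul_one, ← map_pow, show (-1 : S) ^ 2 = 1 by decide, map_one]
    have h1 : σ (-1) * t = 1 := by
      simpa using (pow_gcd_eq_one (a := σ (-1) * t) (m := 2) (n := 3)).2
        ⟨h2, by rw [← hk]; exact U.exp _ (zpow_mem U.zR k)⟩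
    rw [eq_inv_of_mul_eq_one_left h1, hti]
  have hneg : P (-1) = -1 := by
    refine Subtype.ext (ext_of_mulVec_single fun i => ?_)
    have e : D.h 0 ((A (-1)).1 *ᵥ Pi.single i 1) = D.h 0 (-(Pi.single i 1)) := by
      rw [← hAψ, hσt, hti, hth]
    show (A (-1)).1 *ᵥ Pi.single i 1 = _
    rw [(D.h_inj hz1 e).2]
    ext j
    fin_cases i <;> fin_cases j <;> simp [mulVec, dotProduct, Fin.sum_univ_two]
  have hPinj : Function.Injective P := by
    rw [injective_iff_map_eq_one]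
    intro s hs
    by_contra hs1
    have hdec : ∀ s : S, s ≠ 1 → s = -1 ∨ s ^ 2 = -1 ∨ s ^ 3 = -1 ∨ ∃ h : S, (s * h * s⁻¹ * h⁻¹) ^ 2 = -1 := by
      decide +kernel
    have hne : (-1 : S) ≠ 1 := by decide
    rcases hdec s hs1 with h | h | h | ⟨g, h⟩ <;> refine hne ?_ <;> rw [← hneg, ← h] <;> simp [hs]
  obtain ⟨Pe, hPe⟩ : ∃ Pe : S ≃* S, ∀ s, Pe s = P s :=
    ⟨MulEquiv.ofBijective P (Finite.injective_iff_bijective.1 hPinj), fun _ => rfl⟩
  let τ : S →* X := σ.comp Pe.symm.toMonoidHom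
  have hτ : ∀ g k v, τ g * D.h k v = D.h k (g.1 *ᵥ v) * τ g := by
    intro g k v
    have e : A (Pe.symm g) = g := (hPe _).symm.trans (Pe.apply_symm_apply g)
    have e0 : τ g * D.h 0 v = D.h 0 (g.1 *ᵥ v) * τ g := by
      have := hAψ (Pe.symm g) v
      rw [e] at this
      exact mul_inv_eq_iff_eq_mul.1 this
    have ez : Commute (D.h k 0) (τ g) := by
      rw [D.h_z]; exact (hwc z hzZ _).pow_left _
    rw [show D.h k v = D.h k 0 * D.h 0 v by rw [D.h_mul]; simp [omega],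
      show D.h k (g.1 *ᵥ v) = D.h k 0 * D.h 0 (g.1 *ᵥ v) by rw [D.h_mul]; simp [omega]]
    rw [← mul_assoc, ← ez.eq, mul_assoc, e0, mul_assoc]
  let F : M →* X := MonoidHom.mk' (fun m => D.h m.k m.v * τ m.g) fun m n => by
    show D.h (m * n).k (m * n).v * τ (m * n).g = _
    rw [M.mul_k, M.mul_v, M.mul_g, map_mul, mul_assoc (D.h m.k m.v) (τ m.g),
      ← mul_assoc (τ m.g) (D.h n.k n.v), hτ, mul_assoc, ← mul_assoc (D.h m.k m.v), D.h_mul]
  refine ⟨MulEquiv.ofBijective F ⟨?_, ?_⟩⟩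
  · rw [injective_iff_map_eq_one]
    intro m hm
    have hm' : D.h m.k m.v * σ (Pe.symm m.g) = 1 := hm
    have hg : Pe.symm m.g = 1 := by
      have := congrArg U.π hm'
      rwa [map_mul, U.mem_R.1 (hmem _ _), one_mul, (hσ _).1, map_one] at this
    rw [hg, map_one, mul_one, ← D.h_zero] at hm'
    obtain ⟨h1, h2⟩ := D.h_inj hz1 hm'
    exact M.ext h1 h2 (by rw [← Pe.apply_symm_apply m.g, hg, map_one]; rfl)
  · intro y
    obtain ⟨r, hr⟩ : ∃ r, r = y * (σ (U.π y))⁻¹ := ⟨_, rfl⟩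
    have hrR : r ∈ U.R := by rw [hr, U.mem_R, map_mul, map_inv, (hσ _).1, mul_inv_cancel]
    obtain ⟨k, v, e⟩ := hsurj r hrR
    refine ⟨⟨k, v, Pe (U.π y)⟩, ?_⟩
    show D.h k v * σ (Pe.symm (Pe (U.π y))) = y
    rw [Pe.symm_apply_apply, e, hr, inv_mul_cancel_right]

/-- Recognition. -/
theorem recognise (hR : Cfsg.IsExtraspecial 3 (Cfsg.pCore 3 X)) (hcard : Nat.card (Cfsg.pCore 3 X) = 27)
    (hexp : ∀ r ∈ Cfsg.pCore 3 X, r ^ 3 = 1) (π : X →* S) (hπ : π.ker = Cfsg.pCore 3 X)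
    (hsurj : Function.Surjective π) (hO2 : Cfsg.pCore 2 X = ⊥)
    (hE : ∃ E : Subgroup X, IsMulCommutative E ∧ (∀ a ∈ E, a ^ 3 = 1) ∧ Nat.card E = 27) :
    Nonempty (M ≃* X) := by
  haveI : Fact (Nat.Prime 3) := ⟨Nat.prime_three⟩
  obtain ⟨hspec, hZ⟩ := hR
  obtain ⟨⟨z, hzC⟩, hz⟩ := exists_prime_orderOf_dvd_card' 3
    (show 3 ∣ Nat.card (Subgroup.center (Cfsg.pCore 3 X)) by rw [hZ])
  have hz' : orderOf (z : X) = 3 := by rw [Subgroup.orderOf_coe, ← Subgroup.orderOf_mk z hzC]; exact hz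
  have hzt : Subgroup.zpowers (⟨z, hzC⟩ : Subgroup.center (Cfsg.pCore 3 X)) = ⊤ :=
    Subgroup.eq_top_of_card_eq _ (by rw [Nat.card_zpowers, hz, hZ])
  have hcen : ∀ w : Cfsg.pCore 3 X, w ∈ Subgroup.center _ → (w : X) ∈ Subgroup.zpowers (z : X) := by
    intro w hw
    obtain ⟨k, hk⟩ : (⟨w, hw⟩ : Subgroup.center _) ∈ Subgroup.zpowers ⟨z, hzC⟩ := hzt ▸ Subgroup.mem_top _
    exact ⟨k, by simpa using congrArg (fun u : Subgroup.center (Cfsg.pCore 3 X) => ((u : Cfsg.pCore 3 X) : X)) hk⟩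
  refine Setup.nonempty_equiv
    { R := Cfsg.pCore 3 X, z := z, π := π, ker := hπ, surj := hsurj, card := hcard, exp := hexp
      zR := z.2
      z1 := fun h => by rw [h, orderOf_one] at hz'; omega
      zc := fun r hr => (congrArg Subtype.val (Subgroup.mem_center_iff.1 hzC ⟨r, hr⟩)).symm
      cen := fun r hr h => hcen ⟨r, hr⟩ (Subgroup.mem_center_iff.2 fun s => Subtype.ext (h s s.2).symm)
      comm := ?_, noTwo := ?_ } hE
  · intro r hr s hs
    have h1 : ⁅(⟨r, hr⟩ : Cfsg.pCore 3 X), (⟨s, hs⟩ : Cfsg.pCore 3 X)⁆ ∈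
        Subgroup.center (Cfsg.pCore 3 X) := by
      rw [← hspec.2.2]
      exact Subgroup.commutator_mem_commutator (Subgroup.mem_top _) (Subgroup.mem_top _)
    exact hcen _ h1
  · intro x hx hc
    haveI : (Subgroup.zpowers x).Normal := ⟨fun n hn g => by
      obtain ⟨k, rfl⟩ := hn
      show g * x ^ k * g⁻¹ ∈ _
      rw [← ((hc g).zpow_left k).eq, mul_inv_cancel_right]
      exact ⟨k, rfl⟩⟩
    have hp : IsPGroup 2 (Subgroup.zpowers x) := by
      intro y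
      obtain ⟨_, k, rfl⟩ := y
      exact ⟨1, Subtype.ext (by
        show (x ^ k) ^ (2 ^ 1) = 1
        rw [← zpow_natCast, ← _root_.zpow_mul, mul_comm, _root_.zpow_mul, zpow_natCast, pow_one, hx, _root_.one_zpow])⟩
    have hle : Subgroup.zpowers x ≤ Cfsg.pCore 2 X := le_sSup ⟨inferInstance, hp⟩
    rw [hO2, le_bot_iff, Subgroup.zpowers_eq_bot] at hle
    exact hle

end Cfsg.Agent.Small.ShapeThree
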