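import Cfsg.Agent.Lib.Small.ShapeThree.Extraspecial
import Cfsg.Agent.Lib.Small.SL2Three

/-!
A complement commuting with the involution.
-/

set_option autoImplicit false
set_option linter.style.haveILetI false

open scoped commutatorElement

namespace Cfsg.Agent.Small.ShapeThree.Setup

variable {X : Type*} [Group X] [Finite X] (U : Setup X) {t : X} (ht : t * t = 1) (htπ : U.π t = -1)
include ht htπ

theorem mem_Z_of_commute {r : X} (hr : r ∈ U.R) (hc : Commute r t) : r ∈ Subgroup.zpowers U.z := by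
  by_contra h
  refine U.t_fpf ht htπ hr h ?_
  rw [mul_assoc, hc.eq, ← mul_assoc, ht, one_mul]

/-- The centralizer of the involution covers the quotient. -/
theorem lift_commute (s : S) : ∃ g : X, Commute g t ∧ U.π g = s := by
  obtain ⟨g, rfl⟩ := U.surj s
  obtain ⟨c, hc⟩ : ∃ c, c = g * t * g⁻¹ * t := ⟨_, rfl⟩
  have hcR : c ∈ U.R := hc ▸ U.t_conj_central ht htπ g
  have hti : t⁻¹ = t := inv_eq_of_mul_eq_one_right ht
  have e : g * t * g⁻¹ = c * t := by rw [hc, mul_assoc _ t t, ht, mul_one]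
  have hinv : t * c * t = c⁻¹ := by
    have e2 : (g * t * g⁻¹) * (g * t * g⁻¹) = 1 := by
      calc _ = g * (t * t) * g⁻¹ := by group
        _ = 1 := by rw [ht]; group
    rw [e] at e2
    refine eq_inv_of_mul_eq_one_right ?_
    calc c * (t * c * t) = (c * t) * (c * t) := by group
      _ = 1 := e2
  have h3 : c * c = c⁻¹ := eq_inv_of_mul_eq_one_left (by rw [← pow_two, ← pow_succ]; exact U.exp _ hcR)
  refine ⟨c * g, ?_, by rw [map_mul, U.mem_R.1 hcR, one_mul]⟩
  refine mul_inv_eq_iff_eq_mul.1 (?_ : c * g * t * (c * g)⁻¹ = t)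
  calc c * g * t * (c * g)⁻¹ = c * (g * t * g⁻¹) * c⁻¹ := by group
    _ = c * (c * t) * (c * c) := by rw [e, h3]
    _ = (c * c) * ((t * c * t) * (t * c * t) * t) := by
      rw [show (t * c * t) * (t * c * t) * t = t * c * (t * t) * c * (t * t) by group, ht]; group
    _ = t := by rw [hinv]; group

/-- The elements of order dividing four over the quaternion group. -/
def quart : Set X := {g | Commute g t ∧ g ^ 4 = 1}

theorem quart_lift {s : S} (hs : s ^ 4 = 1) : ∃ g ∈ quart (t := t), U.π g = s := by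
  obtain ⟨g, hg, rfl⟩ := U.lift_commute ht htπ s
  refine ⟨g ^ 9, ⟨hg.pow_left 9, ?_⟩, ?_⟩
  · have h4 : g ^ 4 ∈ U.R := by rw [U.mem_R, map_pow, hs]
    calc (g ^ 9) ^ 4 = ((g ^ 4) ^ 3) ^ 3 := by rw [← pow_mul, ← pow_mul, ← pow_mul]
      _ = 1 := by rw [U.exp _ h4, one_pow]
  · rw [map_pow, show (9 : ℕ) = 4 * 2 + 1 from rfl, pow_succ, pow_mul, hs, one_pow, one_mul]

theorem quart_mul {g g' : X} (hg : g ∈ quart (t := t)) (hg' : g' ∈ quart (t := t)) :
    g * g' ∈ quart (t := t) := by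
  obtain ⟨W, hW⟩ : ∃ W : Subgroup X,
      W = Subgroup.centralizer {t} ⊓ Small.SL2Three.Q.comap U.π := ⟨_, rfl⟩
  have hmem : ∀ x, x ∈ W ↔ Commute x t ∧ U.π x ^ 4 = 1 := fun x => by
    rw [hW, Subgroup.mem_inf, Subgroup.mem_centralizer_singleton_iff]
    exact Iff.rfl
  obtain ⟨f, hf⟩ : ∃ f : W →* S, f = U.π.comp W.subtype := ⟨_, rfl⟩
  have hker : ∀ x : W, x ∈ f.ker ↔ (x : X) ∈ Subgroup.zpowers U.z := fun x => by
    rw [MonoidHom.mem_ker, hf]
    refine ⟨fun h => U.mem_Z_of_commute ht htπ (U.mem_R.2 h) ((hmem _).1 x.2).1, fun h => ?_⟩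
    exact U.mem_R.1 (U.zpowers_le h)
  have hcard : Nat.card f.ker ∣ 3 := by
    have h1 : f.ker.map W.subtype ≤ Subgroup.zpowers U.z := by
      rintro _ ⟨x, hx, rfl⟩
      exact (hker x).1 hx
    have h2 := Subgroup.card_dvd_of_le h1
    rwa [Subgroup.card_map_of_injective W.subtype_injective, Nat.card_zpowers, U.order_z] at h2
  have hidx : f.ker.index ∣ 8 := by
    rw [Subgroup.index_ker]
    have h1 : f.range ≤ Small.SL2Three.Q := by
      rintro _ ⟨x, rfl⟩
      rw [hf]
      exact ((hmem _).1 x.2).2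
    exact Small.SL2Three.card_Q ▸ Subgroup.card_dvd_of_le h1
  have hco : Nat.Coprime (Nat.card f.ker) f.ker.index :=
    Nat.Coprime.of_dvd hcard hidx (by norm_num)
  obtain ⟨K, hK⟩ := Subgroup.exists_right_complement'_of_coprime hco
  have hKiff : ∀ x : W, x ∈ K ↔ (x : X) ^ 4 = 1 := by
    have hdisj := hK.disjoint
    have hk4 : ∀ k ∈ K, (k : X) ^ 4 = 1 := fun k hk => by
      have h1 : k ^ 4 ∈ f.ker := by
        rw [MonoidHom.mem_ker, map_pow, hf]
        exact ((hmem _).1 k.2).2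
      have h2 : k ^ 4 = 1 := Subgroup.disjoint_def.1 hdisj h1 (pow_mem hk 4)
      simpa using congrArg Subtype.val h2
    refine fun x => ⟨fun hx => hk4 x hx, fun hx => ?_⟩
    obtain ⟨⟨n, k⟩, hnk⟩ := hK.2 x
    simp only at hnk
    have hn : ((n : W) : X) ∈ Subgroup.zpowers U.z := (hker n).1 n.2
    have hn4 : ((n : W) : X) ^ 4 = 1 := by
      obtain ⟨j, hj⟩ := hn
      simp only at hj
      rw [← hnk, Subgroup.coe_mul, ← hj, ((U.z_central _).zpow_left j).mul_pow, hk4 k k.2, mul_one, hj] at hx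
      exact hx
    have hn1 : ((n : W) : X) = 1 := by
      have := hn4
      rwa [show (4 : ℕ) = 3 + 1 from rfl, pow_succ, U.exp _ (U.zpowers_le hn), one_mul] at this
    have : (x : W) = k := by rw [← hnk, show (n : W) = 1 from Subtype.ext hn1, one_mul]
    rw [this]; exact k.2
  have hgW : g ∈ W := (hmem g).2 ⟨hg.1, by rw [← map_pow, hg.2, map_one]⟩
  have hgW' : g' ∈ W := (hmem g').2 ⟨hg'.1, by rw [← map_pow, hg'.2, map_one]⟩
  have := (hKiff _).1 (mul_mem ((hKiff ⟨g, hgW⟩).2 hg.2) ((hKiff ⟨g', hgW'⟩).2 hg'.2))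
  exact ⟨hg.1.mul_left hg'.1, this⟩

/-- A section of the quotient map with values in the centralizer of the involution. -/
theorem exists_section {x : X} (hx : x ^ 3 = 1) (hxt : Commute x t) (hxπ : U.π x ≠ 1) :
    ∃ σ : S →* X, ∀ s, U.π (σ s) = s ∧ Commute (σ s) t := by
  have hconj : ∀ (i : ℕ), ∀ k ∈ quart (t := t), x ^ i * k * (x ^ i)⁻¹ ∈ quart (t := t) := by
    intro i k hk
    refine ⟨((hxt.pow_left i).mul_left hk.1).mul_left (hxt.pow_left i).inv_left, ?_⟩
    rw [conj_pow, hk.2, mul_one, mul_inv_cancel]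
  let L : Subgroup X :=
    { carrier := {g | ∃ k ∈ quart (t := t), ∃ i : ℕ, g = k * x ^ i}
      one_mem' := ⟨1, ⟨Commute.one_left t, one_pow 4⟩, 0, by simp⟩
      mul_mem' := by
        rintro _ _ ⟨k, hk, i, rfl⟩ ⟨k', hk', j, rfl⟩
        refine ⟨k * (x ^ i * k' * (x ^ i)⁻¹), U.quart_mul ht htπ hk (hconj i k' hk'), i + j, ?_⟩
        rw [pow_add]; group
      inv_mem' := by
        rintro _ ⟨k, hk, i, rfl⟩
        refine ⟨x ^ (2 * i) * k⁻¹ * (x ^ (2 * i))⁻¹, hconj _ _ ⟨hk.1.inv_left, by rw [inv_pow, hk.2, inv_one]⟩,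
          2 * i, ?_⟩
        have e : (x ^ i)⁻¹ = x ^ (2 * i) := inv_eq_of_mul_eq_one_right (by
          rw [← pow_add, show i + 2 * i = 3 * i by ring, pow_mul, hx, one_pow])
        rw [mul_inv_rev, e]; group }
  have hu3 : U.π x ^ 3 = 1 := by rw [← map_pow, hx, map_one]
  have hinj : Function.Injective (U.π.comp L.subtype) := by
    rw [injective_iff_map_eq_one]
    rintro ⟨_, k, hk, i, rfl⟩ h
    simp only [MonoidHom.coe_comp, Subgroup.coe_subtype, Function.comp_apply, map_mul, map_pow] at h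
    have hdec : ∀ u q : S, ∀ i : Fin 3, u ^ 3 = 1 → u ≠ 1 → q ^ 4 = 1 → q * u ^ (i : ℕ) = 1 → i = 0 ∧ q = 1 := by
      decide +kernel
    have e : ∀ y : S, y ^ 3 = 1 → y ^ i = y ^ (i % 3) := fun y hy => by
      conv_lhs => rw [← Nat.mod_add_div i 3, pow_add, pow_mul, hy, one_pow, mul_one]
    rw [e _ hu3] at h
    obtain ⟨hi, hq⟩ := hdec (U.π x) (U.π k) ⟨i % 3, Nat.mod_lt _ (by norm_num)⟩ hu3 hxπ
      (by rw [← map_pow, hk.2, map_one]) h
    have hi' : i % 3 = 0 := by simpa using congrArg Fin.val hi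
    have hxi : x ^ i = 1 := by rw [← Nat.mod_add_div i 3, hi', zero_add, pow_mul, hx, one_pow]
    have hkR : k ∈ U.R := U.mem_R.2 hq
    have hk1 : k = 1 := by
      have := hk.2
      rwa [show (4 : ℕ) = 3 + 1 from rfl, pow_succ, U.exp _ hkR, one_mul] at this
    exact Subtype.ext (by simp [hk1, hxi])
  have hsurj : Function.Surjective (U.π.comp L.subtype) := by
    intro s
    have hdec : ∀ u s : S, u ^ 3 = 1 → u ≠ 1 → ∃ i : Fin 3, (s * u ^ (i : ℕ)) ^ 4 = 1 := by decide +kernel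
    obtain ⟨i, hi⟩ := hdec (U.π x) s hu3 hxπ
    obtain ⟨k, hk, e⟩ := U.quart_lift ht htπ hi
    refine ⟨⟨k * x ^ (2 * (i : ℕ)), k, hk, _, rfl⟩, ?_⟩
    simp only [MonoidHom.coe_comp, Subgroup.coe_subtype, Function.comp_apply, map_mul, map_pow, e]
    rw [mul_assoc, ← pow_add, show (i : ℕ) + 2 * i = 3 * i by ring, pow_mul, hu3, one_pow, mul_one]
  obtain ⟨e, he⟩ : ∃ e : L ≃* S, ∀ l, e l = U.π l :=
    ⟨MulEquiv.ofBijective (U.π.comp L.subtype) ⟨hinj, hsurj⟩, fun _ => rfl⟩
  refine ⟨L.subtype.comp e.symm.toMonoidHom, fun s => ⟨?_, ?_⟩⟩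
  · exact (he _).symm.trans (e.apply_symm_apply s)
  · obtain ⟨k, hk, i, hki⟩ := (e.symm s).2
    show Commute ((e.symm s : L) : X) t
    rw [hki]
    exact hk.1.mul_left (hxt.pow_left i)

omit [Finite X] in
/-- An element of order three outside `R` commuting with the involution. -/
theorem exists_order_three [Finite X] (hE : ∃ E : Subgroup X, IsMulCommutative E ∧
    (∀ a ∈ E, a ^ 3 = 1) ∧ Nat.card E = 27) : ∃ x : X, x ^ 3 = 1 ∧ Commute x t ∧ U.π x ≠ 1 := by
  obtain ⟨E, hEc, hE3, hEcard⟩ := hE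
  haveI := hEc
  have hcomm : ∀ p ∈ E, ∀ q ∈ E, Commute p q := fun p hp q hq =>
    congrArg Subtype.val (hEc.is_comm.comm ⟨p, hp⟩ ⟨q, hq⟩)
  -- the intersection with `R`
  obtain ⟨f, hf⟩ : ∃ f : E →* S, f = U.π.comp E.subtype := ⟨_, rfl⟩
  have hrange : Nat.card f.range ≤ 3 := by
    have h1 : Nat.card f.range ∣ 27 := hEcard ▸ Subgroup.card_range_dvd f
    have h2 : Nat.card f.range ∣ 24 := by
      rw [← Small.SL2Three.card_S]; exact Subgroup.card_subgroup_dvd_card _
    exact Nat.le_of_dvd (by norm_num) ((Nat.dvd_gcd h1 h2).trans (by norm_num))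
  have hmul : Nat.card f.ker * Nat.card f.range = 27 := by
    rw [← hEcard, ← Subgroup.index_ker]; exact f.ker.card_mul_index
  have hkc : ∀ p : f.ker, ((p : E) : X) ∈ U.R := fun p => U.mem_R.2 (by
    have := p.2
    rw [MonoidHom.mem_ker] at this
    simpa [hf] using this)
  have hne : f.range ≠ ⊥ := by
    intro h
    have hle : E ≤ U.R := fun p hp => U.mem_R.2 (by
      have : f ⟨p, hp⟩ ∈ f.range := ⟨_, rfl⟩
      rwa [h, Subgroup.mem_bot, hf] at this)
    have := Subgroup.eq_of_le_of_card_ge hle (by rw [U.card, hEcard])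
    obtain ⟨r, hr, hne⟩ := U.t_moves ht htπ
    have hall : ∀ r ∈ U.R, r ∈ Subgroup.zpowers U.z := fun r hr =>
      U.cen r hr fun s hs => hcomm r (this ▸ hr) s (this ▸ hs)
    obtain ⟨k, rfl⟩ := hall r hr
    exact hne ((U.z_central t).zpow_left k).symm
  obtain ⟨⟨e, heE⟩, hef⟩ : ∃ e : E, f e ≠ 1 := by
    by_contra h
    push Not at h
    exact hne ((Subgroup.eq_bot_iff_forall _).2 fun _ ⟨p, hp⟩ => hp ▸ h p)
  -- an element of `E ∩ R` outside the centre
  obtain ⟨d, hdE, hdR, hdz⟩ : ∃ d ∈ E, d ∈ U.R ∧ d ∉ Subgroup.zpowers U.z := by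
    by_contra h
    push Not at h
    have h1 : (f.ker.map E.subtype) ≤ Subgroup.zpowers U.z := by
      rintro _ ⟨p, hp, rfl⟩
      exact h _ p.2 (hkc ⟨p, hp⟩)
    have h2 := Subgroup.card_le_of_le h1
    rw [Subgroup.card_map_of_injective E.subtype_injective, Nat.card_zpowers, U.order_z] at h2
    nlinarith
  have hti : t⁻¹ = t := inv_eq_of_mul_eq_one_right ht
  obtain ⟨a, ha⟩ : ∃ a, a = e⁻¹ * (t * e * t) := ⟨_, rfl⟩
  have haR : a ∈ U.R := by
    rw [ha, U.mem_R, map_mul, map_inv, map_mul, map_mul, htπ]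
    simp
  -- `d` is inverted modulo the centre, so `t e t` centralizes it
  have had : Commute a d := by
    obtain ⟨k, hk⟩ := U.t_inverts_mod ht htπ hdR
    simp only at hk
    have htd : t * d * t = d⁻¹ * U.z ^ k := by rw [hk, inv_mul_cancel_left]
    have h1 : Commute (t * e * t) (t * d * t) := by
      have h := hcomm e heE d hdE
      calc (t * e * t) * (t * d * t) = t * e * (t * t) * d * t := by group
        _ = t * (e * d) * t := by rw [ht]; group
        _ = t * (d * e) * t := by rw [h.eq]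
        _ = t * d * (t * t) * e * t := by rw [ht]; group
        _ = (t * d * t) * (t * e * t) := by group
    rw [htd] at h1
    have h2 : Commute (t * e * t) d := by
      have := h1.mul_right ((U.z_central (t * e * t)).zpow_left (-k)).symm
      rw [mul_assoc d⁻¹, ← zpow_add, add_neg_cancel, zpow_zero, mul_one] at this
      simpa using this.inv_right
    rw [ha]
    exact ((hcomm e heE d hdE).inv_left).mul_left h2
  have hae : Commute a e := by
    have h := U.cR_eq hdR hdz (U.mem_cR.2 ⟨haR, had⟩)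
    clear ha haR had
    induction h using Subgroup.closure_induction with
    | mem y hy =>
      rcases hy with rfl | rfl
      · exact U.z_central e
      · exact hcomm _ hdE e heE
    | one => exact Commute.one_left e
    | mul y w _ _ hy hw => exact hy.mul_left hw
    | inv y _ hy => exact hy.inv_left
  have htet : Commute e (t * e * t) := by
    have : t * e * t = e * a := by rw [ha, mul_inv_cancel_left]
    rw [this]
    exact (Commute.refl e).mul_right hae.symm
  refine ⟨(e * (t * e * t)) ^ 2, ?_, ?_, ?_⟩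
  · have h3 : (t * e * t) ^ 3 = 1 := by
      calc (t * e * t) ^ 3 = t * e ^ 3 * t := by
            nth_rw 2 [← hti]
            rw [conj_pow, hti]
        _ = 1 := by rw [hE3 e heE, mul_one, ht]
    rw [← pow_mul, mul_comm 2 3, pow_mul, htet.mul_pow, hE3 e heE, h3, one_mul, one_pow]
  · refine Commute.pow_left ?_ 2
    show e * (t * e * t) * t = t * (e * (t * e * t))
    calc e * (t * e * t) * t = e * t * e * (t * t) := by group
      _ = (t * t) * e * t * e := by rw [ht]; group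
      _ = t * ((t * e * t) * e) := by group
      _ = t * (e * (t * e * t)) := by rw [htet.eq]
  · have he' : U.π e ≠ 1 := by simpa [hf] using hef
    have he3 : U.π e ^ 3 = 1 := by rw [← map_pow, hE3 e heE, map_one]
    rw [map_pow, map_mul, map_mul, map_mul, htπ]
    revert he' he3
    generalize U.π e = u
    revert u
    decide +kernel

end Cfsg.Agent.Small.ShapeThree.Setup
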