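import Mathlib

/-!
The group `3^{1+2}_+ : SL₂(3)` as a group of triples.
-/

set_option autoImplicit false

namespace Cfsg.Agent.Small.ShapeThree

open Matrix

abbrev S := Matrix.SpecialLinearGroup (Fin 2) (ZMod 3)
abbrev V := Fin 2 → ZMod 3

/-- The alternating form. -/
def omega (v w : V) : ZMod 3 := v 0 * w 1 - v 1 * w 0

theorem omega_add_right (u v w : V) : omega u (v + w) = omega u v + omega u w := by
  simp only [omega, Pi.add_apply]; ring

theorem omega_add_left (u v w : V) : omega (u + v) w = omega u w + omega v w := by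
  simp only [omega, Pi.add_apply]; ring

theorem coe_mul (g h : S) : (g * h).1 = g.1 * h.1 := rfl
theorem coe_one : (1 : S).1 = 1 := rfl
theorem coe_inv (g : S) : (g⁻¹).1 = adjugate g.1 := Matrix.SpecialLinearGroup.coe_inv g

theorem omega_act (g : S) (v w : V) : omega (g.1 *ᵥ v) (g.1 *ᵥ w) = omega v w := by
  have h := g.2
  rw [det_fin_two] at h
  simp only [omega, mulVec, dotProduct, Fin.sum_univ_two]
  linear_combination (v 0 * w 1 - v 1 * w 0) * h

@[ext]
structure M where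
  k : ZMod 3
  v : V
  g : S
deriving DecidableEq, Fintype

namespace M

instance : Mul M := ⟨fun x y => ⟨x.k + y.k + omega x.v (x.g.1 *ᵥ y.v), x.v + x.g.1 *ᵥ y.v, x.g * y.g⟩⟩
instance : One M := ⟨⟨0, 0, 1⟩⟩
instance : Inv M := ⟨fun x => ⟨-x.k, -((x.g⁻¹).1 *ᵥ x.v), x.g⁻¹⟩⟩

theorem mul_k (x y : M) : (x * y).k = x.k + y.k + omega x.v (x.g.1 *ᵥ y.v) := rfl
theorem mul_v (x y : M) : (x * y).v = x.v + x.g.1 *ᵥ y.v := rfl
theorem mul_g (x y : M) : (x * y).g = x.g * y.g := rfl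
theorem one_k : (1 : M).k = 0 := rfl
theorem one_v : (1 : M).v = 0 := rfl
theorem one_g : (1 : M).g = 1 := rfl
theorem inv_k (x : M) : x⁻¹.k = -x.k := rfl
theorem inv_v (x : M) : x⁻¹.v = -((x.g⁻¹).1 *ᵥ x.v) := rfl
theorem inv_g (x : M) : x⁻¹.g = x.g⁻¹ := rfl

instance : Group M := Group.ofLeftAxioms
  (fun x y z => by
    refine M.ext ?_ ?_ (mul_assoc _ _ _)
    · simp only [mul_k, mul_v, mul_g, omega_add_right, omega_add_left, omega_act, mulVec_add,
        coe_mul, ← mulVec_mulVec]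
      ring
    · simp only [mul_v, mul_g, mulVec_add, coe_mul, ← mulVec_mulVec]
      abel)
  (fun x => by
    refine M.ext ?_ ?_ (one_mul _)
    · simp [mul_k, one_k, one_v, one_g, omega]
    · simp [mul_v, one_v, one_g])
  (fun x => by
    refine M.ext ?_ ?_ (inv_mul_cancel _)
    · rw [mul_k, one_k, inv_k, inv_v, inv_g]
      simp only [omega, Pi.neg_apply]
      ring
    · rw [mul_v, one_v, inv_v, inv_g, neg_add_cancel])

def equivProd : M ≃ ZMod 3 × V × S where
  toFun x := (x.k, x.v, x.g)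
  invFun p := ⟨p.1, p.2.1, p.2.2⟩
  left_inv _ := rfl
  right_inv _ := rfl

theorem card_eq : Nat.card M = 648 := by
  have h : Nat.card S = 24 := by rw [Nat.card_eq_fintype_card]; decide +kernel
  rw [Nat.card_congr equivProd, Nat.card_prod, Nat.card_prod, h, Nat.card_eq_fintype_card,
    Nat.card_eq_fintype_card]
  rfl

/-- The transvection. -/
def c : M := ⟨1, 0, 1⟩

def u : S := ⟨!![1, 1; 0, 1], by decide⟩

theorem center_eq (m : M) (h : ∀ x : M, x * m = m * x) : ∃ k, m = ⟨k, 0, 1⟩ := by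
  have key : ∀ (v : V) (g : S), (∀ i : Fin 2, omega (Pi.single i 1) v = omega v (g.1 *ᵥ Pi.single i 1) ∧
      Pi.single i 1 + v = v + g.1 *ᵥ Pi.single i 1) → v = 0 ∧ g = 1 := by decide +kernel
  obtain ⟨hv, hg⟩ := key m.v m.g fun i => by
    have h1 := h ⟨0, Pi.single i 1, 1⟩
    refine ⟨?_, ?_⟩
    · have h2 := congrArg M.k h1
      simp only [mul_k, coe_one, one_mulVec, zero_add, add_zero] at h2
      exact add_left_cancel h2
    · have h2 := congrArg M.v h1
      simpa [mul_v] using h2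
  exact ⟨m.k, M.ext rfl hv hg⟩

/-- A Sylow 3-subgroup. -/
def P : Subgroup M where
  carrier := {x | x.g.1 0 0 = 1 ∧ x.g.1 1 0 = 0 ∧ x.g.1 1 1 = 1}
  one_mem' := ⟨rfl, rfl, rfl⟩
  mul_mem' := fun {x y} hx hy => by
    obtain ⟨a1, a2, a3⟩ := hx
    obtain ⟨b1, b2, b3⟩ := hy
    simp [mul_g, coe_mul, Matrix.mul_apply, Fin.sum_univ_two, a1, a2, a3, b1, b2, b3]
  inv_mem' := fun {x} hx => by
    obtain ⟨a1, a2, a3⟩ := hx
    have h : (x⁻¹).g.1 = Matrix.adjugate x.g.1 := coe_inv x.g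
    simp [h, adjugate_fin_two, a1, a2, a3]

instance : DecidablePred (· ∈ P) := fun x =>
  inferInstanceAs (Decidable (x.g.1 0 0 = 1 ∧ x.g.1 1 0 = 0 ∧ x.g.1 1 1 = 1))

theorem card_P : Nat.card P = 81 := by
  let e : P ≃ ZMod 3 × V × ZMod 3 :=
    { toFun := fun x => (x.1.k, x.1.v, x.1.g.1 0 1)
      invFun := fun p => ⟨⟨p.1, p.2.1, ⟨!![1, p.2.2; 0, 1], by simp [det_fin_two]⟩⟩, rfl, rfl, rfl⟩
      left_inv := fun x => by
        obtain ⟨⟨k, v, g⟩, a1, a2, a3⟩ := x
        refine Subtype.ext (M.ext rfl rfl (Subtype.ext ?_))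
        ext i j
        fin_cases i <;> fin_cases j <;> simp <;> first | exact a1.symm | exact a2.symm | exact a3.symm
      right_inv := fun p => rfl }
  rw [Nat.card_congr e, Nat.card_prod, Nat.card_prod, Nat.card_eq_fintype_card, Nat.card_eq_fintype_card]
  rfl

theorem center_P (m : M) (hm : m ∈ P) (h : ∀ x ∈ P, x * m = m * x) : ∃ k, m = ⟨k, 0, 1⟩ := by
  have key : ∀ (v : V) (g : S), (∀ i : Fin 2, omega (Pi.single i 1) v = omega v (g.1 *ᵥ Pi.single i 1) ∧
      Pi.single i 1 + v = v + g.1 *ᵥ Pi.single i 1) → v = 0 ∧ g = 1 := by decide +kernel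
  obtain ⟨hv, hg⟩ := key m.v m.g fun i => by
    have h1 := h ⟨0, Pi.single i 1, 1⟩ ⟨rfl, rfl, rfl⟩
    refine ⟨?_, ?_⟩
    · have h2 := congrArg M.k h1
      simp only [mul_k, coe_one, one_mulVec, zero_add, add_zero] at h2
      exact add_left_cancel h2
    · have h2 := congrArg M.v h1
      simpa [mul_v] using h2
  exact ⟨m.k, M.ext rfl hv hg⟩

theorem c_ne_one : c ≠ 1 := fun h => absurd (congrArg M.k h) (by decide)

theorem c_cube : c ^ 3 = 1 := by
  have h : c * c * c = ⟨0, 0, 1⟩ := by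
    refine M.ext ?_ ?_ ?_ <;> simp [c, mul_k, mul_v, mul_g, omega]
    decide
  rw [pow_three, ← mul_assoc, h]; rfl

theorem c_pow_nat (n : ℕ) : c ^ n = ⟨n, 0, 1⟩ := by
  induction n with
  | zero => exact M.ext (by simp [one_k]) rfl rfl
  | succ n ih =>
    rw [pow_succ, ih]
    refine M.ext ?_ ?_ ?_ <;> simp [c, mul_k, mul_v, mul_g, omega]

theorem c_pow (k : ZMod 3) : (⟨k, 0, 1⟩ : M) = c ^ k.val := by
  rw [c_pow_nat, ZMod.natCast_zmod_val]

end M

end Cfsg.Agent.Small.ShapeThree
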