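import Cfsg.Prelude.Def_Transfer
import Cfsg.Agent.Lib.Small.ShapeThree.Model

/-!
An extraspecial group of order 27 and exponent 3: coordinates adapted to an involution.
-/

set_option autoImplicit false
set_option linter.style.haveILetI false

open scoped commutatorElement

namespace Cfsg.Agent.Small.ShapeThree

variable {X : Type*} [Group X]

/-- Powers with exponent in `ZMod 3`. -/
def pw (g : X) (i : ZMod 3) : X := g ^ i.val

theorem pow_mod_three {g : X} (h : g ^ 3 = 1) (n : ℕ) : g ^ n = pw g n := by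
  rw [pw, ZMod.val_natCast]
  conv_lhs => rw [← Nat.mod_add_div n 3, pow_add, pow_mul, h, one_pow, mul_one]

theorem pw_add {g : X} (h : g ^ 3 = 1) (i j : ZMod 3) : pw g (i + j) = pw g i * pw g j := by
  rw [pw, pw, pw, ← pow_add, pow_mod_three h (i.val + j.val), pw, Nat.cast_add, ZMod.natCast_zmod_val,
    ZMod.natCast_zmod_val]

theorem pw_zero (g : X) : pw g 0 = 1 := pow_zero g

theorem pw_one (g : X) : pw g 1 = g := pow_one g

/-- The data: `a`, `b` of order three with central commutator `z`. -/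
structure Pair (X : Type*) [Group X] where
  a : X
  b : X
  z : X
  ha : a ^ 3 = 1
  hb : b ^ 3 = 1
  hz : z ^ 3 = 1
  hza : Commute z a
  hzb : Commute z b
  hab : a * b = z * (b * a)

namespace Pair

variable (D : Pair X)

theorem ab_pow (n : ℕ) : D.a * D.b ^ n = D.z ^ n * (D.b ^ n * D.a) := by
  induction n with
  | zero => simp
  | succ n ih =>
    calc D.a * D.b ^ (n + 1) = (D.a * D.b ^ n) * D.b := by rw [pow_succ, mul_assoc]
      _ = D.z ^ n * (D.b ^ n * (D.a * D.b)) := by rw [ih]; group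
      _ = D.z ^ n * ((D.b ^ n * D.z) * (D.b * D.a)) := by rw [D.hab]; group
      _ = D.z ^ n * ((D.z * D.b ^ n) * (D.b * D.a)) := by rw [(D.hzb.pow_right n).eq]
      _ = D.z ^ (n + 1) * (D.b ^ (n + 1) * D.a) := by rw [pow_succ, pow_succ]; group

theorem apow_bpow (m n : ℕ) : D.a ^ m * D.b ^ n = D.z ^ (m * n) * (D.b ^ n * D.a ^ m) := by
  induction m with
  | zero => simp
  | succ m ih =>
    calc D.a ^ (m + 1) * D.b ^ n = D.a ^ m * (D.a * D.b ^ n) := by rw [pow_succ, mul_assoc]
      _ = (D.a ^ m * D.z ^ n) * (D.b ^ n * D.a) := by rw [D.ab_pow]; group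
      _ = (D.z ^ n * D.a ^ m) * (D.b ^ n * D.a) := by rw [(D.hza.pow_pow n m).eq]
      _ = D.z ^ n * ((D.a ^ m * D.b ^ n) * D.a) := by group
      _ = (D.z ^ n * D.z ^ (m * n)) * (D.b ^ n * (D.a ^ m * D.a)) := by rw [ih]; group
      _ = D.z ^ ((m + 1) * n) * (D.b ^ n * D.a ^ (m + 1)) := by
        rw [← pow_add, ← pow_succ, show n + m * n = (m + 1) * n by ring]

theorem a_pw_b_pw (i j : ZMod 3) : pw D.a i * pw D.b j = pw D.z (i * j) * (pw D.b j * pw D.a i) := by
  rw [pw, pw, D.apow_bpow, pow_mod_three D.hz, Nat.cast_mul, ZMod.natCast_zmod_val, ZMod.natCast_zmod_val]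

theorem commute_pw_a (k i : ZMod 3) : Commute (pw D.z k) (pw D.a i) := D.hza.pow_pow _ _

theorem commute_pw_b (k i : ZMod 3) : Commute (pw D.z k) (pw D.b i) := D.hzb.pow_pow _ _

theorem b_pw_a_pw (i j : ZMod 3) : pw D.b j * pw D.a i = pw D.z (-(i * j)) * (pw D.a i * pw D.b j) := by
  rw [D.a_pw_b_pw i j, ← mul_assoc, ← pw_add D.hz, neg_add_cancel, pw_zero, one_mul]

/-- The coordinates. -/
def h (k : ZMod 3) (v : V) : X := pw D.z (2 * k + v 0 * v 1) * pw D.a (v 0) * pw D.b (v 1)

theorem h_mul (k l : ZMod 3) (v w : V) : D.h k v * D.h l w = D.h (k + l + omega v w) (v + w) := by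
  simp only [h, Pi.add_apply]
  calc pw D.z (2 * k + v 0 * v 1) * pw D.a (v 0) * pw D.b (v 1) *
        (pw D.z (2 * l + w 0 * w 1) * pw D.a (w 0) * pw D.b (w 1))
      = pw D.z (2 * k + v 0 * v 1) * (pw D.a (v 0) * (pw D.b (v 1) * pw D.z (2 * l + w 0 * w 1)) *
          (pw D.a (w 0) * pw D.b (w 1))) := by group
    _ = pw D.z (2 * k + v 0 * v 1) * ((pw D.a (v 0) * pw D.z (2 * l + w 0 * w 1)) * pw D.b (v 1) *
          (pw D.a (w 0) * pw D.b (w 1))) := by rw [(D.commute_pw_b _ _).symm.eq]; group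
    _ = pw D.z (2 * k + v 0 * v 1) * pw D.z (2 * l + w 0 * w 1) * pw D.a (v 0) *
          (pw D.b (v 1) * pw D.a (w 0)) * pw D.b (w 1) := by
        rw [(D.commute_pw_a _ _).symm.eq]; group
    _ = pw D.z (2 * k + v 0 * v 1) * pw D.z (2 * l + w 0 * w 1) *
          (pw D.a (v 0) * pw D.z (-(w 0 * v 1))) * pw D.a (w 0) * (pw D.b (v 1) * pw D.b (w 1)) := by
        rw [D.b_pw_a_pw (w 0) (v 1)]; group
    _ = (pw D.z (2 * k + v 0 * v 1) * pw D.z (2 * l + w 0 * w 1) * pw D.z (-(w 0 * v 1))) *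
          (pw D.a (v 0) * pw D.a (w 0)) * (pw D.b (v 1) * pw D.b (w 1)) := by
        rw [(D.commute_pw_a _ _).symm.eq]; group
    _ = _ := by
        rw [← pw_add D.hz, ← pw_add D.hz, ← pw_add D.ha, ← pw_add D.hb]
        congr 3
        simp only [omega]
        have e3 : (3 : ZMod 3) = 0 := by decide
        linear_combination -(v 0 * w 1) * e3

theorem h_zero : D.h 0 0 = 1 := by simp [h, pw_zero]

theorem h_z (k : ZMod 3) : D.h k 0 = pw D.z (2 * k) := by simp [h, pw_zero]

theorem h_a : D.h 0 (Pi.single 0 1) = D.a := by simp [h, pw_zero, pw_one]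

theorem h_b : D.h 0 (Pi.single 1 1) = D.b := by simp [h, pw_zero, pw_one]

theorem h_inj (hz1 : D.z ≠ 1) {k l : ZMod 3} {v w : V} (e : D.h k v = D.h l w) : k = l ∧ v = w := by
  have hker : ∀ k v, D.h k v = 1 → k = 0 ∧ v = 0 := by
    intro k v e
    have hcomm : ∀ u : V, omega v u = omega u v := by
      intro u
      have h1 : D.h k v * D.h 0 u = D.h 0 u * D.h k v := by rw [e, one_mul, mul_one]
      rw [D.h_mul, D.h_mul, add_comm v u, zero_add, add_zero] at h1
      by_contra hne
      have h2 : D.h (omega v u - omega u v) 0 = 1 := by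
        have h3 := congrArg (fun x => x * (D.h (k + omega u v) (u + v))⁻¹) h1
        simp only [mul_inv_cancel] at h3
        rw [← h3, eq_mul_inv_iff_mul_eq, D.h_mul]
        congr 1
        · simp [omega]; ring
        · rw [zero_add]
      rw [D.h_z] at h2
      rcases (show ∀ i : ZMod 3, i = 0 ∨ i = 1 ∨ i = 2 by decide) (omega v u - omega u v) with hi | hi | hi
      · exact hne (sub_eq_zero.1 hi)
      · rw [hi, show pw D.z (2 * 1) = D.z ^ 2 from rfl] at h2
        exact hz1 (by rw [← D.hz, pow_succ, h2, one_mul])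
      · rw [hi, show pw D.z (2 * 2) = D.z ^ 1 from rfl, pow_one] at h2
        exact hz1 h2
    have hv : v = 0 := by
      have h1 := hcomm (Pi.single 0 1)
      have h2 := hcomm (Pi.single 1 1)
      simp [omega] at h1 h2
      revert h1 h2
      generalize hp : v 0 = p
      generalize hq : v 1 = q
      intro h1 h2
      have hh : ∀ p q : ZMod 3, (-q = q → p = -p → p = 0 ∧ q = 0) := by decide
      obtain ⟨rfl, rfl⟩ := hh p q h1 h2
      ext i; fin_cases i
      · exact hp
      · exact hq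
    subst hv
    rw [D.h_z] at e
    refine ⟨?_, rfl⟩
    rcases (show ∀ i : ZMod 3, i = 0 ∨ i = 1 ∨ i = 2 by decide) k with rfl | rfl | rfl
    · rfl
    · rw [show pw D.z (2 * 1) = D.z ^ 2 from rfl] at e
      exact absurd (by rw [← D.hz, pow_succ, e, one_mul]) hz1
    · rw [show pw D.z (2 * 2) = D.z ^ 1 from rfl, pow_one] at e
      exact absurd e hz1
  have h1 : D.h k v * D.h (-l) (-w) = 1 := by
    rw [e, D.h_mul, add_neg_cancel, add_neg_cancel, zero_add, show omega w (-w) = 0 by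
      simp [omega]; ring, D.h_zero]
  rw [D.h_mul] at h1
  obtain ⟨hk, hv⟩ := hker _ _ h1
  have hvw : v = w := by rwa [← sub_eq_add_neg, sub_eq_zero] at hv
  subst hvw
  refine ⟨?_, rfl⟩
  have h0 : omega v (-v) = 0 := by simp [omega]; ring
  rwa [h0, add_zero, ← sub_eq_add_neg, sub_eq_zero] at hk

end Pair

end Cfsg.Agent.Small.ShapeThree
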