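import Cfsg.Prelude.Def_Transfer
import Cfsg.Prelude.Def_Solvable
import Cfsg.Agent.Lib.Small.ShapeThree.Heis

/-!
An involution acting on an extraspecial normal subgroup of order 27 inside a group with quotient
`SL₂(3)` and trivial 2-core.
-/

set_option autoImplicit false
set_option linter.style.haveILetI false

open scoped commutatorElement

namespace Cfsg.Agent.Small.ShapeThree

variable {X : Type*} [Group X] [Finite X]

/-- The hypotheses. -/
structure Setup (X : Type*) [Group X] where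
  R : Subgroup X
  z : X
  π : X →* S
  ker : π.ker = R
  surj : Function.Surjective π
  card : Nat.card R = 27
  exp : ∀ r ∈ R, r ^ 3 = 1
  zR : z ∈ R
  z1 : z ≠ 1
  zc : ∀ r ∈ R, Commute z r
  cen : ∀ r ∈ R, (∀ s ∈ R, Commute r s) → r ∈ Subgroup.zpowers z
  comm : ∀ r ∈ R, ∀ s ∈ R, ⁅r, s⁆ ∈ Subgroup.zpowers z
  noTwo : ∀ x : X, x ^ 2 = 1 → (∀ y : X, Commute x y) → x = 1

namespace Setup

variable (U : Setup X)

omit [Finite X] in
theorem mem_R {x : X} : x ∈ U.R ↔ U.π x = 1 := by rw [← U.ker, MonoidHom.mem_ker]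

omit [Finite X] in
theorem conj_mem {r : X} (hr : r ∈ U.R) (g : X) : g * r * g⁻¹ ∈ U.R := by
  rw [mem_R] at hr ⊢
  rw [map_mul, map_mul, hr, mul_one, map_inv, mul_inv_cancel]

omit [Finite X] in
theorem zpowers_le : Subgroup.zpowers U.z ≤ U.R := (Subgroup.zpowers_le).2 U.zR

omit [Finite X] in
theorem order_z : orderOf U.z = 3 :=
  haveI : Fact (Nat.Prime 3) := ⟨Nat.prime_three⟩
  orderOf_eq_prime (U.exp _ U.zR) U.z1

omit [Finite X] in
theorem zpowers_eq {x : X} (hx : x ∈ Subgroup.zpowers U.z) : x = 1 ∨ x = U.z ∨ x = U.z⁻¹ := by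
  obtain ⟨k, rfl⟩ := hx
  show U.z ^ k = 1 ∨ U.z ^ k = U.z ∨ U.z ^ k = U.z⁻¹
  have h3 : U.z ^ (3 : ℤ) = 1 := by exact_mod_cast U.exp _ U.zR
  rw [← Int.emod_add_ediv_mul k 3, zpow_add, mul_comm (k / 3), zpow_mul, h3, one_zpow, mul_one]
  rcases (show k % 3 = 0 ∨ k % 3 = 1 ∨ k % 3 = 2 by omega) with h | h | h <;> rw [h]
  · exact Or.inl (zpow_zero _)
  · exact Or.inr (Or.inl (zpow_one _))
  · refine Or.inr (Or.inr (eq_inv_of_mul_eq_one_left ?_))
    rw [show (2 : ℤ) = 3 - 1 from rfl, zpow_sub, h3, one_mul, zpow_one, inv_mul_cancel]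

omit [Finite X] in
theorem z_central (g : X) : Commute U.z g := by
  have hstep : ∀ g : X, (g * U.z * g⁻¹ = U.z ∨ g * U.z * g⁻¹ = U.z⁻¹) := fun g => by
    have hz : ∀ s ∈ U.R, Commute (g * U.z * g⁻¹) s := fun s hs => by
      have hs' : g⁻¹ * s * g ∈ U.R := by simpa using U.conj_mem hs g⁻¹
      calc (g * U.z * g⁻¹) * s = g * (U.z * (g⁻¹ * s * g)) * g⁻¹ := by group
        _ = g * ((g⁻¹ * s * g) * U.z) * g⁻¹ := by rw [(U.zc _ hs').eq]
        _ = s * (g * U.z * g⁻¹) := by group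
    rcases U.zpowers_eq (U.cen _ (U.conj_mem U.zR g) hz) with h | h
    · exact absurd (by simpa using h : U.z = 1) U.z1
    · exact h
  have h3 : ∀ g : X, U.π g ^ 3 = 1 → Commute U.z g := by
    intro g hg
    rcases hstep g with h | h
    · exact (mul_inv_eq_iff_eq_mul.1 h).symm
    · exfalso
      have hgR : g ^ 3 ∈ U.R := by rw [U.mem_R, map_pow, hg]
      have e := (U.zc _ hgR).eq
      have e3 : g ^ 3 * U.z * (g ^ 3)⁻¹ = U.z⁻¹ := by
        calc g ^ 3 * U.z * (g ^ 3)⁻¹ = g * (g * (g * U.z * g⁻¹) * g⁻¹) * g⁻¹ := by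
              simp only [pow_succ, pow_zero, one_mul, mul_inv_rev, mul_assoc]
          _ = g * (g * U.z⁻¹ * g⁻¹) * g⁻¹ := by rw [h]
          _ = g * (g * U.z * g⁻¹)⁻¹ * g⁻¹ := by simp only [mul_inv_rev, inv_inv, mul_assoc]
          _ = g * U.z * g⁻¹ := by rw [h, inv_inv, h]
          _ = U.z⁻¹ := h
      rw [← e, mul_inv_cancel_right] at e3
      have h2 : U.z ^ 2 = 1 := by rw [pow_two]; exact mul_eq_one_iff_eq_inv.2 e3
      have := orderOf_dvd_of_pow_eq_one h2
      rw [U.order_z] at this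
      omega
  have hdec : ∀ s : S, ∃ a b : S, a ^ 3 = 1 ∧ b ^ 3 = 1 ∧ a * b = s ∨
      ∃ a b c : S, a ^ 3 = 1 ∧ b ^ 3 = 1 ∧ c ^ 3 = 1 ∧ a * b * c = s := by decide +kernel
  obtain ⟨a, b, ⟨ha, hb, e⟩ | ⟨a, b, c, ha, hb, hc, e⟩⟩ := hdec (U.π g)
  · obtain ⟨a', rfl⟩ := U.surj a
    obtain ⟨b', rfl⟩ := U.surj b
    have hr : (a' * b')⁻¹ * g ∈ U.R := by rw [U.mem_R, map_mul, map_inv, map_mul, e, inv_mul_cancel]
    have := ((h3 a' ha).mul_right (h3 b' hb)).mul_right (U.zc _ hr)
    rwa [mul_inv_cancel_left] at this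
  · obtain ⟨a', rfl⟩ := U.surj a
    obtain ⟨b', rfl⟩ := U.surj b
    obtain ⟨c', rfl⟩ := U.surj c
    have hr : (a' * b' * c')⁻¹ * g ∈ U.R := by
      rw [U.mem_R, map_mul, map_inv, map_mul, map_mul, e, inv_mul_cancel]
    have := (((h3 a' ha).mul_right (h3 b' hb)).mul_right (h3 c' hc)).mul_right (U.zc _ hr)
    rwa [mul_inv_cancel_left] at this

omit [Finite X] in
theorem commutator_mul_right {r s u : X} (hr : r ∈ U.R) (hu : u ∈ U.R) :
    ⁅r, s * u⁆ = ⁅r, s⁆ * ⁅r, u⁆ := by
  have hc : ∀ y, Commute ⁅r, u⁆ y := fun y => by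
    obtain ⟨k, hk⟩ := U.comm r hr u hu
    simp only at hk
    rw [← hk]
    exact (U.z_central y).zpow_left k
  calc ⁅r, s * u⁆ = ⁅r, s⁆ * (s * ⁅r, u⁆ * s⁻¹) := by simp only [commutatorElement_def]; group
    _ = _ := by rw [← (hc s).eq, mul_inv_cancel_right]

/-- The centralizer of a noncentral element in `R`. -/
def cR (d : X) : Subgroup X := U.R ⊓ Subgroup.centralizer {d}

omit [Finite X] in
theorem mem_cR {d x : X} : x ∈ U.cR d ↔ x ∈ U.R ∧ Commute x d := by
  rw [cR, Subgroup.mem_inf, Subgroup.mem_centralizer_singleton_iff]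
  rfl

/-- It is generated by `z` and the element. -/
theorem cR_eq {d : X} (hd : d ∈ U.R) (hdz : d ∉ Subgroup.zpowers U.z) :
    U.cR d ≤ Subgroup.closure {U.z, d} := by
  have hcl : Subgroup.closure {U.z, d} ≤ U.cR d := by
    rw [Subgroup.closure_le]
    rintro _ (rfl | rfl)
    · exact U.mem_cR.2 ⟨U.zR, U.z_central d⟩
    · exact U.mem_cR.2 ⟨hd, Commute.refl _⟩
  have h1 := Subgroup.card_dvd_of_le (show U.cR d ≤ U.R from inf_le_left)
  have h2 := Subgroup.card_dvd_of_le hcl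
  have hne : U.cR d ≠ U.R := fun h => hdz (U.cen d hd fun s hs => (U.mem_cR.1 (h ▸ hs)).2.symm)
  have hlt : Nat.card (U.cR d) < 27 := by
    by_contra hc
    exact hne (Subgroup.eq_of_le_of_card_ge inf_le_left (by rw [U.card]; omega))
  have hbig : 3 < Nat.card (Subgroup.closure {U.z, d}) := by
    have hle : Subgroup.zpowers U.z < Subgroup.closure {U.z, d} := by
      refine lt_of_le_of_ne ((Subgroup.zpowers_le).2 (Subgroup.subset_closure (by simp))) fun h => hdz ?_
      rw [h]; exact Subgroup.subset_closure (by simp)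
    calc 3 = Nat.card (Subgroup.zpowers U.z) := by rw [Nat.card_zpowers, U.order_z]
      _ < _ := by
        by_contra hc
        exact hle.ne (Subgroup.eq_of_le_of_card_ge hle.le (not_lt.1 hc))
  rw [U.card] at h1
  have h27 : ∀ n, n ∣ 27 → n < 27 → n ≤ 9 := by
    intro n hn hn'
    obtain ⟨i, hi, rfl⟩ := (Nat.dvd_prime_pow Nat.prime_three).1 (show n ∣ 3 ^ 3 from hn)
    interval_cases i <;> omega
  refine le_of_eq (Subgroup.eq_of_le_of_card_ge hcl ?_).symm
  have h3 := h27 _ h1 hlt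
  obtain ⟨i, hi, hi'⟩ := (Nat.dvd_prime_pow Nat.prime_three).1 (show _ ∣ 3 ^ 3 from h2.trans h1)
  rw [hi'] at hbig ⊢
  interval_cases i <;> omega

/-- An involution over `-1`. -/
theorem exists_involution : ∃ t : X, t * t = 1 ∧ U.π t = -1 := by
  obtain ⟨g, hg⟩ := U.surj (-1)
  refine ⟨g ^ 27, ?_, ?_⟩
  · have h : g ^ 2 ∈ U.R := by rw [U.mem_R, map_pow, hg, neg_one_sq]
    have h3 := U.exp _ h
    calc g ^ 27 * g ^ 27 = ((g ^ 2) ^ 3) ^ 9 := by rw [← pow_add, ← pow_mul, ← pow_mul]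
      _ = 1 := by rw [h3, one_pow]
  · rw [map_pow, hg]
    exact Odd.neg_one_pow (by decide)

variable {t : X} (ht : t * t = 1) (htπ : U.π t = -1)
include ht htπ

omit [Finite X] in
theorem t_conj_central (g : X) : g * t * g⁻¹ * t ∈ U.R := by
  rw [U.mem_R, map_mul, map_mul, map_mul, map_inv, htπ]
  simp

/-- The involution moves something in `R`. -/
theorem t_moves : ∃ r ∈ U.R, ¬ Commute t r := by
  by_contra h
  push Not at h
  have htcen : ∀ g, Commute t g := by
    intro g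
    set c := g * t * g⁻¹ * t with hc
    have hcR := U.t_conj_central ht htπ g
    have hct : ∀ s ∈ U.R, Commute (g * t * g⁻¹) s := fun s hs => by
      have hs' : g⁻¹ * s * g ∈ U.R := by simpa using U.conj_mem hs g⁻¹
      calc (g * t * g⁻¹) * s = g * (t * (g⁻¹ * s * g)) * g⁻¹ := by group
        _ = g * ((g⁻¹ * s * g) * t) * g⁻¹ := by rw [(h _ hs').eq]
        _ = s * (g * t * g⁻¹) := by group
    have hzc : c ∈ Subgroup.zpowers U.z := U.cen _ hcR fun s hs => (hct s hs).mul_left (h s hs)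
    have hti : t⁻¹ = t := inv_eq_of_mul_eq_one_right ht
    have h1 : c ^ 2 = 1 := by
      have hcomm : Commute c t := (h _ hcR).symm
      have e : g * t * g⁻¹ = c * t := by rw [hc, mul_assoc _ t t, ht, mul_one]
      have e2 : (g * t * g⁻¹) * (g * t * g⁻¹) = 1 := by
        calc _ = g * (t * t) * g⁻¹ := by group
          _ = 1 := by rw [ht]; group
      rw [e] at e2
      rw [pow_two]
      calc c * c = c * c * (t * t) := by rw [ht, mul_one]
        _ = (c * t) * (c * t) := by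
          rw [mul_assoc c t, ← mul_assoc t c, ← hcomm.eq]; group
        _ = 1 := e2
    have h2 : c = 1 := by
      have := (pow_gcd_eq_one (a := c) (m := 2) (n := 3)).2 ⟨h1, U.exp _ hcR⟩
      simpa using this
    have e : g * t * g⁻¹ = t := by
      have := mul_eq_one_iff_eq_inv.1 (hc.symm.trans h2)
      rwa [hti] at this
    exact (mul_inv_eq_iff_eq_mul.1 e).symm
  have := U.noTwo t (by rw [pow_two, ht]) htcen
  rw [this, map_one] at htπ
  exact absurd htπ (by decide)

omit [Finite X] htπ in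
theorem t_fix_of_mod {r : X} (hr : r ∈ U.R) {w : X} (hw : w ∈ Subgroup.zpowers U.z)
    (e : t * r * t = r * w) : t * r * t = r := by
  obtain ⟨k, rfl⟩ := hw
  simp only at e
  have hzt : Commute (U.z ^ k) t := (U.z_central t).zpow_left k
  have e2 : r = r * U.z ^ k * U.z ^ k := by
    calc r = (t * t) * r * (t * t) := by rw [ht]; group
      _ = t * (t * r * t) * t := by group
      _ = t * (r * U.z ^ k) * t := by rw [e]
      _ = t * r * (U.z ^ k * t) := by group
      _ = (t * r * t) * U.z ^ k := by rw [hzt.eq]; group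
      _ = r * U.z ^ k * U.z ^ k := by rw [e]
  have h2 : (U.z ^ k) ^ 2 = 1 := by
    rw [pow_two]
    exact (mul_eq_left (a := r)).1 (by rw [← mul_assoc]; exact e2.symm)
  have h3 : (U.z ^ k) ^ 3 = 1 := U.exp _ (zpow_mem U.zR k)
  have h4 := (pow_gcd_eq_one (a := U.z ^ k) (m := 2) (n := 3)).2 ⟨h2, h3⟩
  rw [e, show U.z ^ k = 1 by simpa using h4, mul_one]

/-- The involution is fixed point free modulo the centre. -/
theorem t_fpf {d : X} (hd : d ∈ U.R) (hdz : d ∉ Subgroup.zpowers U.z) : t * d * t ≠ d := by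
  intro hdd
  obtain ⟨r, hr, hne⟩ := U.t_moves ht htπ
  have hti : t⁻¹ = t := inv_eq_of_mul_eq_one_right ht
  have hr' : t * r * t ∈ U.R := by
    have := U.conj_mem hr t
    rwa [hti] at this
  obtain ⟨c, hc⟩ : ∃ c, c = r⁻¹ * (t * r * t) := ⟨_, rfl⟩
  have hcR : c ∈ U.R := hc ▸ mul_mem (inv_mem hr) hr'
  have hfix : ⁅d, t * r * t⁆ = ⁅d, r⁆ := by
    have e1 : t * ⁅d, r⁆ * t⁻¹ = ⁅t * d * t⁻¹, t * r * t⁻¹⁆ := by
      simp only [commutatorElement_def]; group
    rw [hti, hdd] at e1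
    obtain ⟨k, hk⟩ := U.comm d hd r hr
    simp only at hk
    rw [← e1, ← hk, ← ((U.z_central t).zpow_left k).eq, mul_assoc, ht, mul_one]
  have hcd : Commute c d := by
    have e := U.commutator_mul_right (s := r) hd hcR
    rw [show r * c = t * r * t by rw [hc, mul_inv_cancel_left], hfix] at e
    exact (commutatorElement_eq_one_iff_commute.1 (left_eq_mul.1 e)).symm
  have hfixc : t * c * t = c := by
    have hc' := U.cR_eq hd hdz (U.mem_cR.2 ⟨hcR, hcd⟩)
    clear hc hcR hcd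
    induction hc' using Subgroup.closure_induction with
    | mem x hx =>
      rcases hx with rfl | rfl
      · rw [← (U.z_central t).eq, mul_assoc, ht, mul_one]
      · exact hdd
    | one => rw [mul_one, ht]
    | mul x y _ _ hx hy =>
      calc t * (x * y) * t = (t * x * t) * (t * y * t) := by
            rw [show (t * x * t) * (t * y * t) = t * x * (t * t) * y * t by group, ht]; group
        _ = x * y := by rw [hx, hy]
    | inv x _ hx =>
      calc t * x⁻¹ * t = (t⁻¹ * x * t⁻¹)⁻¹ := by group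
        _ = x⁻¹ := by rw [hti, hx]
  have h2 : c ^ 2 = 1 := by
    have e : r = r * c * c := by
      calc r = (t * t) * r * (t * t) := by rw [ht]; group
        _ = t * (t * r * t) * t := by group
        _ = t * (r * c) * t := by rw [hc, mul_inv_cancel_left]
        _ = (t * r * t) * (t * c * t) := by
          rw [show (t * r * t) * (t * c * t) = t * r * (t * t) * c * t by group, ht]; group
        _ = r * c * c := by rw [hfixc, hc, mul_inv_cancel_left]
    rw [pow_two]
    exact (mul_eq_left (a := r)).1 (by rw [← mul_assoc]; exact e.symm)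
  have h3 : c = 1 := by simpa using (pow_gcd_eq_one (a := c) (m := 2) (n := 3)).2 ⟨h2, U.exp _ hcR⟩
  have e : t * r * t = r := by
    rw [← mul_inv_cancel_left r (t * r * t), ← hc, h3, mul_one]
  exact hne (show t * r = r * t by
    calc t * r = t * r * (t * t) := by rw [ht, mul_one]
      _ = (t * r * t) * t := by group
      _ = r * t := by rw [e])

/-- Each coset of the centre contains an inverted element. -/
theorem t_inverts_mod {r : X} (hr : r ∈ U.R) : r * (t * r * t) ∈ Subgroup.zpowers U.z := by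
  by_contra hne
  have hti : t⁻¹ = t := inv_eq_of_mul_eq_one_right ht
  have hr' : t * r * t ∈ U.R := by
    have := U.conj_mem hr t
    rwa [hti] at this
  refine U.t_fpf ht htπ (mul_mem hr hr') hne (U.t_fix_of_mod ht (mul_mem hr hr')
    (w := ⁅(t * r * t)⁻¹, r⁻¹⁆) (U.comm _ (inv_mem hr') _ (inv_mem hr)) ?_)
  calc t * (r * (t * r * t)) * t = (t * r * t) * r * (t * t) := by group
    _ = (t * r * t) * r := by rw [ht, mul_one]
    _ = r * (t * r * t) * ⁅(t * r * t)⁻¹, r⁻¹⁆ := by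
      simp only [commutatorElement_def]; group

/-- An element of each coset is inverted. -/
theorem exists_inverted {r : X} (hr : r ∈ U.R) :
    ∃ w ∈ Subgroup.zpowers U.z, t * (r * w) * t = (r * w)⁻¹ := by
  obtain ⟨k, hk⟩ := U.t_inverts_mod ht htπ hr
  simp only at hk
  refine ⟨U.z ^ k, ⟨k, rfl⟩, ?_⟩
  have hzt : Commute (U.z ^ k) t := (U.z_central t).zpow_left k
  have e : t * r * t = r⁻¹ * U.z ^ k := by rw [hk, inv_mul_cancel_left]
  have h3 : U.z ^ k * U.z ^ k = (U.z ^ k)⁻¹ := eq_inv_of_mul_eq_one_left (by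
    rw [← pow_two, ← pow_succ]; exact U.exp _ (zpow_mem U.zR k))
  calc t * (r * U.z ^ k) * t = t * r * (U.z ^ k * t) := by group
    _ = t * r * t * U.z ^ k := by rw [hzt.eq]; group
    _ = r⁻¹ * (U.z ^ k * U.z ^ k) := by rw [e, mul_assoc]
    _ = r⁻¹ * (U.z ^ k)⁻¹ := by rw [h3]
    _ = (U.z ^ k * r)⁻¹ := by rw [mul_inv_rev]
    _ = (r * U.z ^ k)⁻¹ := by rw [((U.z_central r).zpow_left k).eq]

end Setup

end Cfsg.Agent.Small.ShapeThree
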