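import Cfsg.Prelude.Def_Classical
import Cfsg.Agent.Lib.Small.ShapeThree.Model

/-!
The centralizer of a transvection in `PSp₄(3)`.
-/

set_option autoImplicit false
set_option linter.style.haveILetI false

open Matrix

namespace Cfsg.Agent.Small.ShapeThree

abbrev I4 := Fin 2 ⊕ Fin 2

section

variable {F : Type*} [CommRing F]

/-- The matrix of a triple. -/
def amat (k : F) (v : Fin 2 → F) (g : Matrix (Fin 2) (Fin 2) F) : Matrix I4 I4 F :=
  fromBlocks !![1, -(g 0 0 * v 1 - g 1 0 * v 0); 0, g 0 0]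
    !![k, -(g 0 1 * v 1 - g 1 1 * v 0); v 0, g 0 1]
    !![0, 0; 0, g 1 0] !![1, 0; v 1, g 1 1]

theorem amat_mul (k l : F) (v w : Fin 2 → F) (g h : Matrix (Fin 2) (Fin 2) F)
    (hg : g 0 0 * g 1 1 - g 0 1 * g 1 0 = 1) :
    amat k v g * amat l w h =
      amat (k + l + (v 0 * (g *ᵥ w) 1 - v 1 * (g *ᵥ w) 0)) (v + g *ᵥ w) (g * h) := by
  ext i j
  rcases i with i | i <;> rcases j with j | j <;> fin_cases i <;> fin_cases j <;>
    simp [amat, Matrix.mul_apply, Fintype.sum_sum_type, mulVec, dotProduct, Fin.sum_univ_two] <;>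
    first
    | ring1
    | linear_combination (w 1 * h 0 0 - w 0 * h 1 0) * hg
    | linear_combination -(w 1 * h 0 0 - w 0 * h 1 0) * hg
    | linear_combination (w 1 * h 0 1 - w 0 * h 1 1) * hg
    | linear_combination -(w 1 * h 0 1 - w 0 * h 1 1) * hg

theorem amat_mem (k : F) (v : Fin 2 → F) (g : Matrix (Fin 2) (Fin 2) F)
    (hg : g 0 0 * g 1 1 - g 0 1 * g 1 0 = 1) : amat k v g ∈ symplecticGroup (Fin 2) F := by
  rw [SymplecticGroup.mem_iff]
  ext i j
  rcases i with i | i <;> rcases j with j | j <;> fin_cases i <;> fin_cases j <;>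
    simp [amat, J, Matrix.mul_apply, Matrix.transpose_apply, Fintype.sum_sum_type, Fin.sum_univ_two] <;>
    first
    | ring1
    | linear_combination hg
    | linear_combination -hg
    | linear_combination (v 0) * hg
    | linear_combination -(v 0) * hg
    | linear_combination (v 1) * hg
    | linear_combination -(v 1) * hg

end

variable {F : Type*} [Field F] (ι : ZMod 3 →+* F)

theorem det_entries (g : S) : ι (g.1 0 0) * ι (g.1 1 1) - ι (g.1 0 1) * ι (g.1 1 0) = 1 := by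
  rw [← map_mul, ← map_mul, ← map_sub, ← det_fin_two, g.2, map_one]

/-- The map into the symplectic group. -/
def spHom : M →* symplecticGroup (Fin 2) F where
  toFun m := ⟨amat (ι m.k) (ι ∘ m.v) (m.g.1.map ι), amat_mem _ _ _ (det_entries ι m.g)⟩
  map_one' := by
    refine Subtype.ext ?_
    show amat (ι (1 : M).k) (ι ∘ (1 : M).v) ((1 : M).g.1.map ι) = 1
    ext i j
    rcases i with i | i <;> rcases j with j | j <;> fin_cases i <;> fin_cases j <;>
      simp [amat, M.one_k, M.one_v, M.one_g]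
  map_mul' m n := by
    refine Subtype.ext ?_
    show amat (ι (m * n).k) (ι ∘ (m * n).v) ((m * n).g.1.map ι) =
      amat (ι m.k) (ι ∘ m.v) (m.g.1.map ι) * amat (ι n.k) (ι ∘ n.v) (n.g.1.map ι)
    rw [amat_mul _ _ _ _ _ _ (det_entries ι m.g), M.mul_k, M.mul_v, M.mul_g, coe_mul, Matrix.map_mul]
    congr 1
    · simp [omega, mulVec, dotProduct, Fin.sum_univ_two]
    · ext i
      fin_cases i <;> simp [mulVec, dotProduct, Fin.sum_univ_two, Matrix.vecHead, Matrix.vecTail]

theorem spHom_inj : Function.Injective (spHom ι) := by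
  intro m n e
  have e' : amat (ι m.k) (ι ∘ m.v) (m.g.1.map ι) = amat (ι n.k) (ι ∘ n.v) (n.g.1.map ι) :=
    congrArg Subtype.val e
  have h := ι.injective
  refine M.ext (h ?_) ?_ (Subtype.ext ?_)
  · simpa [amat] using congrFun (congrFun e' (Sum.inl 0)) (Sum.inr 0)
  · ext i
    fin_cases i
    · exact h (by simpa [amat] using congrFun (congrFun e' (Sum.inl 1)) (Sum.inr 0))
    · exact h (by simpa [amat] using congrFun (congrFun e' (Sum.inr 1)) (Sum.inr 0))
  · ext i j
    fin_cases i <;> fin_cases j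
    · exact h (by simpa [amat] using congrFun (congrFun e' (Sum.inl 1)) (Sum.inl 1))
    · exact h (by simpa [amat] using congrFun (congrFun e' (Sum.inl 1)) (Sum.inr 1))
    · exact h (by simpa [amat] using congrFun (congrFun e' (Sum.inr 1)) (Sum.inl 1))
    · exact h (by simpa [amat] using congrFun (congrFun e' (Sum.inr 1)) (Sum.inr 1))

/-- The map into the projective symplectic group. -/
def pspHom : M →* Cfsg.PSp 2 F := (QuotientGroup.mk' _).comp (spHom ι)

theorem pspHom_inj : Function.Injective (pspHom ι) := by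
  rw [injective_iff_map_eq_one]
  intro m hm
  have hc : spHom ι m ∈ Subgroup.center _ := (QuotientGroup.eq_one_iff _).1 hm
  have hcm : ∀ x : M, x * m = m * x := fun x =>
    spHom_inj ι (by rw [map_mul, map_mul]; exact Subgroup.mem_center_iff.1 hc _)
  obtain ⟨k, rfl⟩ := M.center_eq m hcm
  have hJ := congrArg (fun y : symplecticGroup (Fin 2) F => (y : Matrix I4 I4 F) (Sum.inl 0) (Sum.inl 0))
    (Subgroup.mem_center_iff.1 hc ⟨Matrix.J (Fin 2) F, SymplecticGroup.J_mem (Fin 2) F⟩)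
  have hk : ι k = 0 := by
    simpa [spHom, amat, Matrix.J, Matrix.mul_apply, Fintype.sum_sum_type, Fin.sum_univ_two, eq_comm] using hJ
  exact M.ext (by rw [← map_zero ι] at hk; exact ι.injective hk) rfl rfl

/-- The negative. -/
def negSp (y : symplecticGroup (Fin 2) F) : symplecticGroup (Fin 2) F :=
  ⟨-(y : Matrix I4 I4 F), SymplecticGroup.neg_mem y.2⟩

theorem neg_one_central : negSp (1 : symplecticGroup (Fin 2) F) ∈ Subgroup.center _ :=
  Subgroup.mem_center_iff.2 fun y => Subtype.ext (by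
    show (y : Matrix I4 I4 F) * -1 = -1 * y
    rw [mul_neg, mul_one, neg_mul, one_mul])

theorem mk_neg (y : symplecticGroup (Fin 2) F) :
    (QuotientGroup.mk (negSp y) : Cfsg.PSp 2 F) = QuotientGroup.mk y := by
  rw [QuotientGroup.eq]
  have h : (negSp y)⁻¹ * y = negSp 1 := by
    refine inv_mul_eq_iff_eq_mul.2 (Subtype.ext ?_)
    show (y : Matrix I4 I4 F) = -(y : Matrix I4 I4 F) * -1
    rw [mul_neg, mul_one, neg_neg]
  rw [h]
  exact neg_one_central

theorem transvection_mat : (spHom ι M.c : Matrix I4 I4 F) = amat 1 0 1 := by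
  show amat (ι 1) (ι ∘ (0 : V)) ((1 : Matrix (Fin 2) (Fin 2) (ZMod 3)).map ι) = _
  rw [map_one, Matrix.map_one ι (map_zero ι) (map_one ι)]
  congr 1
  ext i; simp


theorem amat_c : amat (1 : F) 0 1 = 1 + Matrix.single (Sum.inl 0) (Sum.inr 0) 1 := by
  ext i j
  rcases i with i | i <;> rcases j with j | j <;> fin_cases i <;> fin_cases j <;> simp [amat]

theorem amat_c_mul (b : Matrix I4 I4 F) (i j : I4) :
    (amat (1 : F) 0 1 * b) i j = b i j + (if i = Sum.inl 0 then b (Sum.inr 0) j else 0) := by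
  rw [amat_c, add_mul, one_mul, Matrix.add_apply]
  congr 1
  split_ifs with h
  · subst h; simp
  · simp [Matrix.single_mul_apply_of_ne _ _ _ _ _ h]

theorem mul_amat_c (b : Matrix I4 I4 F) (i j : I4) :
    (b * amat (1 : F) 0 1) i j = b i j + (if j = Sum.inr 0 then b i (Sum.inl 0) else 0) := by
  rw [amat_c, mul_add, mul_one, Matrix.add_apply]
  congr 1
  split_ifs with h
  · subst h; simp
  · simp [Matrix.mul_single_apply_of_ne _ _ _ _ _ h]

/-- A symplectic matrix commuting with enough elements is a sign. -/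
theorem eq_sign (W : Matrix I4 I4 F) (h1 : amat (1 : F) 0 1 * W = W * amat (1 : F) 0 1)
    (h2 : amat (0 : F) ![1, 0] 1 * W = W * amat (0 : F) ![1, 0] 1)
    (h3 : amat (0 : F) ![0, 1] 1 * W = W * amat (0 : F) ![0, 1] 1)
    (hJ : Matrix.J (Fin 2) F * W = W * Matrix.J (Fin 2) F)
    (hW : W * Matrix.J (Fin 2) F * Wᵀ = Matrix.J (Fin 2) F) :
    ∃ s : F, (s = 1 ∨ s = -1) ∧ W = s • 1 := by
  have x : ∀ i j, (i = Sum.inl 0 → W (Sum.inr 0) j = if j = Sum.inr 0 then W i (Sum.inl 0) else 0) ∧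
      (i ≠ Sum.inl 0 → j = Sum.inr 0 → W i (Sum.inl 0) = 0) := by
    intro i j
    have h := congrFun (congrFun h1 i) j
    rw [amat_c_mul, mul_amat_c] at h
    refine ⟨fun hi => ?_, fun hi hj => ?_⟩
    · rw [if_pos hi] at h
      exact add_left_cancel h
    · rw [if_neg hi, if_pos hj] at h
      exact (add_left_cancel h).symm
  have a1 := (x (Sum.inl 0) (Sum.inr 0)).1 rfl
  have a2 := (x (Sum.inl 0) (Sum.inl 0)).1 rfl
  have a3 := (x (Sum.inl 0) (Sum.inl 1)).1 rfl
  have a4 := (x (Sum.inl 0) (Sum.inr 1)).1 rfl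
  have a5 := (x (Sum.inl 1) (Sum.inr 0)).2 (by decide) rfl
  have a6 := (x (Sum.inr 0) (Sum.inr 0)).2 (by decide) rfl
  have a7 := (x (Sum.inr 1) (Sum.inr 0)).2 (by decide) rfl
  simp at a1 a2 a3 a4
  have j00 := congrFun (congrFun hJ (Sum.inl 0)) (Sum.inl 0)
  have j01 := congrFun (congrFun hJ (Sum.inl 0)) (Sum.inl 1)
  have j02 := congrFun (congrFun hJ (Sum.inl 0)) (Sum.inr 0)
  have j03 := congrFun (congrFun hJ (Sum.inl 0)) (Sum.inr 1)
  have j10 := congrFun (congrFun hJ (Sum.inl 1)) (Sum.inl 0)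
  have j11 := congrFun (congrFun hJ (Sum.inl 1)) (Sum.inl 1)
  have j12 := congrFun (congrFun hJ (Sum.inl 1)) (Sum.inr 0)
  have j13 := congrFun (congrFun hJ (Sum.inl 1)) (Sum.inr 1)
  simp [Matrix.J, Matrix.mul_apply, Fintype.sum_sum_type, Fin.sum_univ_two] at j00 j01 j02 j03 j10 j11 j12 j13
  have u1 := congrFun (congrFun h2 (Sum.inl 1)) (Sum.inr 0)
  have u2 := congrFun (congrFun h2 (Sum.inl 1)) (Sum.inr 1)
  have u3 := congrFun (congrFun h2 (Sum.inl 0)) (Sum.inl 1)
  have u4 := congrFun (congrFun h2 (Sum.inl 0)) (Sum.inr 1)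
  have v1 := congrFun (congrFun h3 (Sum.inr 1)) (Sum.inr 0)
  have v2 := congrFun (congrFun h3 (Sum.inr 1)) (Sum.inr 1)
  have v3 := congrFun (congrFun h3 (Sum.inr 1)) (Sum.inl 1)
  simp [amat, Matrix.mul_apply, Fintype.sum_sum_type, Fin.sum_univ_two] at u1 u2 u3 u4 v1 v2 v3
  have hWd : W = W (Sum.inl 0) (Sum.inl 0) • 1 := by
    ext i j
    rcases i with i | i <;> rcases j with j | j <;> fin_cases i <;> fin_cases j <;> simp <;> grind
  refine ⟨W (Sum.inl 0) (Sum.inl 0), ?_, hWd⟩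
  have hsq := congrFun (congrFun hW (Sum.inl 0)) (Sum.inr 0)
  rw [hWd] at hsq
  simp [Matrix.J, Matrix.mul_apply, Fintype.sum_sum_type, Fin.sum_univ_two] at hsq
  exact mul_self_eq_one_iff.1 hsq

/-- The matrices commuting with the transvection up to sign. -/
theorem shape_of (hF3 : (3 : F) = 0) (b : Matrix I4 I4 F) {s : F} (hs : s = 1 ∨ s = -1)
    (h : amat (1 : F) 0 1 * b = s • (b * amat (1 : F) 0 1))
    (hsp : b * Matrix.J (Fin 2) F * bᵀ = Matrix.J (Fin 2) F)
    (hsp' : bᵀ * Matrix.J (Fin 2) F * b = Matrix.J (Fin 2) F) :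
    ∃ (d k : F) (v : Fin 2 → F) (g : Matrix (Fin 2) (Fin 2) F), (d = 1 ∨ d = -1) ∧
      g 0 0 * g 1 1 - g 0 1 * g 1 0 = 1 ∧ d • b = amat k v g := by
  have x : ∀ i j, b i j + (if i = Sum.inl 0 then b (Sum.inr 0) j else 0) =
      s * (b i j + (if j = Sum.inr 0 then b i (Sum.inl 0) else 0)) := fun i j => by
    rw [← amat_c_mul, ← mul_amat_c, h]; rfl
  have hs1 : s = 1 := by
    rcases hs with e | rfl
    · exact e
    exfalso
    have hz : ∀ r : F, r + r = 0 → r = 0 := fun r hr => by linear_combination r * hF3 - hr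
    have hr0 : ∀ j, j ≠ Sum.inr 0 → b (Sum.inr 0) j = 0 := fun j hj => hz _ (by
      have e := x (Sum.inr 0) j
      simp [hj] at e
      linear_combination e)
    have hr : ∀ j, b (Sum.inr 0) j = 0 := fun j => by
      by_cases hj : j = Sum.inr 0
      · refine hz _ ?_
        have e := x (Sum.inr 0) j
        subst hj
        simp [hr0 (Sum.inl 0) (by decide)] at e
        linear_combination e
      · exact hr0 j hj
    have h13 := congrFun (congrFun hsp (Sum.inl 0)) (Sum.inr 0)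
    simp [Matrix.J, Matrix.mul_apply, Matrix.transpose_apply, Fintype.sum_sum_type, Fin.sum_univ_two, hr] at h13
  subst hs1
  have a1 : b (Sum.inr 0) (Sum.inr 0) = b (Sum.inl 0) (Sum.inl 0) := by
    simpa using x (Sum.inl 0) (Sum.inr 0)
  have a2 : b (Sum.inr 0) (Sum.inl 0) = 0 := by simpa using x (Sum.inl 0) (Sum.inl 0)
  have a3 : b (Sum.inr 0) (Sum.inl 1) = 0 := by simpa using x (Sum.inl 0) (Sum.inl 1)
  have a4 : b (Sum.inr 0) (Sum.inr 1) = 0 := by simpa using x (Sum.inl 0) (Sum.inr 1)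
  have a5 : b (Sum.inl 1) (Sum.inl 0) = 0 := by simpa [eq_comm] using x (Sum.inl 1) (Sum.inr 0)
  have a7 : b (Sum.inr 1) (Sum.inl 0) = 0 := by simpa [eq_comm] using x (Sum.inr 1) (Sum.inr 0)
  have e1 := congrFun (congrFun hsp' (Sum.inl 0)) (Sum.inr 0)
  have e2 := congrFun (congrFun hsp' (Sum.inl 1)) (Sum.inr 0)
  have e3 := congrFun (congrFun hsp' (Sum.inr 1)) (Sum.inr 0)
  have e4 := congrFun (congrFun hsp' (Sum.inl 1)) (Sum.inr 1)
  simp [Matrix.J, Matrix.mul_apply, Matrix.transpose_apply, Fintype.sum_sum_type, Fin.sum_univ_two,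
    a1, a2, a3, a4, a5, a7] at e1 e2 e3 e4
  obtain ⟨d, hd⟩ : ∃ d, d = b (Sum.inl 0) (Sum.inl 0) := ⟨_, rfl⟩
  rw [← hd] at a1 e1 e2 e3
  have hdd : d * d = 1 := by linear_combination e1
  refine ⟨d, d * b (Sum.inl 0) (Sum.inr 0), ![d * b (Sum.inl 1) (Sum.inr 0), d * b (Sum.inr 1) (Sum.inr 0)],
    !![d * b (Sum.inl 1) (Sum.inl 1), d * b (Sum.inl 1) (Sum.inr 1);
      d * b (Sum.inr 1) (Sum.inl 1), d * b (Sum.inr 1) (Sum.inr 1)], mul_self_eq_one_iff.1 hdd, ?_, ?_⟩
  · simp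
    grind
  · ext i j
    rcases i with i | i <;> rcases j with j | j <;> fin_cases i <;> fin_cases j <;>
      simp [amat, a1, a2, a3, a4, a5, a7, ← hd, hdd] <;> grind

theorem centralizer_le (hι : Function.Surjective ι) (hF3 : (3 : F) = 0) :
    Subgroup.centralizer ({pspHom ι M.c} : Set (Cfsg.PSp 2 F)) ≤ (pspHom ι).range := by
  intro y hy
  obtain ⟨B, rfl⟩ := QuotientGroup.mk_surjective y
  rw [Subgroup.mem_centralizer_singleton_iff] at hy
  have hy' : (QuotientGroup.mk (B * spHom ι M.c) : Cfsg.PSp 2 F) = QuotientGroup.mk (spHom ι M.c * B) := hy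
  rw [QuotientGroup.eq, Subgroup.mem_center_iff] at hy'
  obtain ⟨Z, hZ, hZc⟩ : ∃ Z, (spHom ι M.c * B) = (B * spHom ι M.c) * Z ∧
      ∀ W : symplecticGroup (Fin 2) F, W * Z = Z * W :=
    ⟨_, (mul_inv_cancel_left (B * spHom ι M.c) (spHom ι M.c * B)).symm, hy'⟩
  have hgen : ∀ v : V, (spHom ι ⟨0, v, 1⟩ : Matrix I4 I4 F) = amat 0 (ι ∘ v) 1 := by
    intro v
    show amat (ι 0) (ι ∘ v) ((1 : Matrix (Fin 2) (Fin 2) (ZMod 3)).map ι) = _
    rw [Matrix.map_one ι (map_zero ι) (map_one ι), map_zero]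
  have hT : ∀ m : M, (spHom ι m : Matrix I4 I4 F) * Z = Z * (spHom ι m : Matrix I4 I4 F) := fun m =>
    congrArg Subtype.val (hZc (spHom ι m))
  have h2 := hT ⟨0, ![1, 0], 1⟩
  have h3 := hT ⟨0, ![0, 1], 1⟩
  rw [hgen, show ι ∘ (![1, 0] : V) = ![1, 0] by ext i; fin_cases i <;> simp] at h2
  rw [hgen, show ι ∘ (![0, 1] : V) = ![0, 1] by ext i; fin_cases i <;> simp] at h3
  have h1 := hT M.c
  rw [transvection_mat] at h1
  obtain ⟨s, hs, hZs⟩ := eq_sign (Z : Matrix I4 I4 F) h1 h2 h3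
    (congrArg Subtype.val (hZc ⟨_, SymplecticGroup.J_mem (Fin 2) F⟩)) (SymplecticGroup.mem_iff.1 Z.2)
  have e2 : amat (1 : F) 0 1 * (B : Matrix I4 I4 F) = s • ((B : Matrix I4 I4 F) * amat (1 : F) 0 1) := by
    have := congrArg (fun W : symplecticGroup (Fin 2) F => (W : Matrix I4 I4 F)) hZ
    simp only [Submonoid.coe_mul, transvection_mat, hZs] at this
    rw [this, Matrix.mul_smul, mul_one]
  obtain ⟨d, k', v', g', hd, hg, hb⟩ := shape_of hF3 (B : Matrix I4 I4 F) hs e2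
    (SymplecticGroup.mem_iff.1 B.2) (by
      have := SymplecticGroup.mem_iff.1 (SymplecticGroup.transpose_mem B.2)
      rwa [transpose_transpose] at this)
  obtain ⟨C, hC, hCd⟩ : ∃ C : symplecticGroup (Fin 2) F,
      (QuotientGroup.mk C : Cfsg.PSp 2 F) = QuotientGroup.mk B ∧
      (C : Matrix I4 I4 F) = d • (B : Matrix I4 I4 F) := by
    rcases hd with rfl | rfl
    · exact ⟨B, rfl, (one_smul _ _).symm⟩
    · exact ⟨negSp B, mk_neg B, by rw [neg_one_smul]; rfl⟩
  choose f hf using hι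
  have hdet : f (g' 0 0) * f (g' 1 1) - f (g' 0 1) * f (g' 1 0) = 1 := by
    refine ι.injective ?_
    rw [map_sub, map_mul, map_mul, map_one, hf, hf, hf, hf]
    exact hg
  refine ⟨⟨f k', f ∘ v', ⟨g'.map f, by rw [det_fin_two]; exact hdet⟩⟩, ?_⟩
  rw [← hC]
  show QuotientGroup.mk (spHom ι _) = _
  congr 1
  refine Subtype.ext ?_
  rw [hCd, hb]
  show amat (ι (f k')) (ι ∘ f ∘ v') (Matrix.map (g'.map f) ι) = _
  congr 1
  · exact hf k'
  · ext i; exact hf _
  · ext i j; exact hf _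

end Cfsg.Agent.Small.ShapeThree
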